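import Cfsg.Agent.Lib.TwoDeg.Basic
import Mathlib.GroupTheory.Nilpotent
import Mathlib.RingTheory.RootsOfUnity.EnoughRootsOfUnity
import Mathlib.Analysis.Complex.Polynomial.Basic
import Mathlib.RingTheory.RootsOfUnity.AlgebraicallyClosed
import Mathlib.GroupTheory.FiniteAbelian.Duality

/-!
# Isaacs 12.5: the structure of groups with two character degrees
-/

set_option autoImplicit false

open scoped Classical
open CfsgLib

namespace CfsgLib.TwoDeg

universe u

variable {G : Type u} [Group G] [Finite G]

/-- Linear characters separate a commutative group. -/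
theorem eq_of_forall_hom_eq {R : Type u} [Group R] [Finite R] (hR : ∀ a b : R, a * b = b * a)
    {x y : R} (h : ∀ f : R →* ℂˣ, f x = f y) : x = y := by
  letI : CommGroup R := { ‹Group R› with mul_comm := hR }
  by_contra hne
  obtain ⟨f, hf⟩ := CommGroup.exists_apply_ne_one_of_hasEnoughRootsOfUnity R ℂ
    (mul_inv_eq_one.not.2 hne : x * y⁻¹ ≠ 1)
  exact hf (by rw [map_mul, map_inv, h f, mul_inv_cancel])

/-- **Isaacs 12.5.** -/
theorem structure_two_degrees (m : ℕ)
    (hcd : ∀ χ : Cfsg.IrrCharacter G, Cfsg.charDegree (χ : G → ℂ) = 1 ∨ Cfsg.charDegree (χ : G → ℂ) = m)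
    (hm : ∃ χ : Cfsg.IrrCharacter G, Cfsg.charDegree (χ : G → ℂ) = m) (hm1 : m ≠ 1) :
    (∃ A : Subgroup G, A.Normal ∧ (∀ a ∈ A, ∀ b ∈ A, a * b = b * a) ∧ A.index = m ∧
      ∀ a b : G, a * b * a⁻¹ * b⁻¹ ∈ A) ∨
    ∃ p e : ℕ, p.Prime ∧ m = p ^ e ∧ ∃ P A : Subgroup G, P.Normal ∧ A.Normal ∧ IsPGroup p P ∧
      (∀ a ∈ A, ∀ b ∈ A, a * b = b * a) ∧ (∀ a ∈ A, ∀ g : G, a * g = g * a) ∧
      P ⊓ A = ⊥ ∧ P ⊔ A = ⊤ := by
  haveI := Fintype.ofFinite G
  obtain ⟨χm, hχm⟩ := hm
  have hmpos : 0 < m := hχm ▸ CharTools.irr_degree_pos χm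
  obtain ⟨R, hR, hR1, hR2, hR3⟩ := exists_normal_hall hm1 hcd m.primeFactors fun p hp =>
    ⟨Nat.prime_of_mem_primeFactors hp, Nat.dvd_of_mem_primeFactors hp⟩
  haveI := hR
  haveI := Fintype.ofFinite R
  have hRm : (Nat.card R).Coprime m := Nat.coprime_of_dvd fun p hp hpR hpm =>
    hR1 p (Nat.mem_primeFactors.2 ⟨hp, hpm, hmpos.ne'⟩) hpR
  -- `R` is abelian
  have hRlin : ∀ η : Cfsg.IrrCharacter R, Cfsg.charDegree (η : R → ℂ) = 1 := by
    intro η
    have hind := CfsgLib.Char.IsCharacter.indFun (H := R) (CfsgLib.Char.IsIrrCharacter.isCharacter η.2)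
    obtain ⟨χ, hχ⟩ := CharTools.exists_constituent hind fun h0 => by
      have h1 := congrFun h0 1
      rw [CfsgLib.Char.indFun_apply_one] at h1
      exact mul_ne_zero (Nat.cast_ne_zero.2 Subgroup.index_ne_zero_of_finite)
        (CharTools.irr_apply_one_ne_zero η) h1
    rw [CfsgLib.Char.classInner_indFun R _ _ (CfsgLib.Char.IsIrrCharacter.isClassFunction χ.2),
      ← CfsgLib.Char.classInner_conj_symm, Ne, map_eq_zero] at hχ
    obtain ⟨k, hk⟩ := CfsgLib.Char.IsCharacter.exists_nat_classInner
      (Clifford.isCharacter_res (CfsgLib.Char.IsIrrCharacter.isCharacter χ.2) R) η.2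
    have h1 := Clifford.apply_one_eq R χ.2 η.2 hχ
    rw [hk, ← CharTools.irr_degree_cast, ← CharTools.irr_degree_cast, ← Nat.cast_mul,
      ← Nat.cast_mul, Nat.cast_inj] at h1
    have hdvd : Cfsg.charDegree (η : R → ℂ) ∣ m := by
      rcases hcd χ with h | h
      · exact ((Dvd.intro_left _ h1.symm).trans h.dvd).trans (one_dvd m)
      · exact (Dvd.intro_left _ h1.symm).trans h.dvd
    exact Nat.dvd_one.1 (hRm ▸ Nat.dvd_gcd (CharTools.degree_dvd_card η) hdvd)
  have hRab : ∀ a b : R, a * b = b * a := comm_of_degree_one hRlin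
  have hco : (Nat.card R).Coprime R.index := Nat.coprime_of_dvd fun q hq hqR hqI =>
    hR1 q (hR2 q hq hqI) hqR
  obtain ⟨H, hc⟩ := Subgroup.exists_right_complement'_of_coprime hco
  have hHcard : Nat.card H = R.index := Nat.card_congr (compEquiv hc).toEquiv
  -- `H` is nilpotent, abelian unless `m` is a prime power
  have hHcomm : (∀ q ∈ m.primeFactors, m ≠ q ^ m.factorization q) →
      ∀ a b : H, a * b = b * a := fun hq a b => by
    have h1 := Subgroup.disjoint_def.1 hc.disjoint (hR3 a b hq)
      (mul_mem (mul_mem (mul_mem a.2 b.2) (inv_mem a.2)) (inv_mem b.2))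
    refine mul_inv_eq_one.1 (Subtype.ext ?_)
    rw [Subgroup.coe_mul, Subgroup.coe_inv, Subgroup.coe_one, Subgroup.coe_mul, Subgroup.coe_mul,
      mul_inv_rev, ← mul_assoc, h1]
  have hHp : ∀ q ∈ m.primeFactors, m = q ^ m.factorization q → IsPGroup q H := fun q hq hmq => by
    haveI : Fact q.Prime := ⟨Nat.prime_of_mem_primeFactors hq⟩
    refine IsPGroup.of_card (n := R.index.primeFactorsList.length) ?_
    rw [hHcard]
    refine Nat.eq_prime_pow_of_unique_prime_dvd Subgroup.index_ne_zero_of_finite fun {d} hd hdI => ?_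
    have hdm := Nat.dvd_of_mem_primeFactors (hR2 d hd hdI)
    rw [hmq] at hdm
    exact (Nat.prime_dvd_prime_iff_eq hd Fact.out).1 (hd.dvd_of_dvd_pow hdm)
  haveI hHnil : Group.IsNilpotent H := by
    by_cases h : ∀ q ∈ m.primeFactors, m ≠ q ^ m.factorization q
    · exact CfsgLib.Solvable.isNilpotent_of_comm (hHcomm h)
    · push Not at h
      obtain ⟨q, hq, hmq⟩ := h
      haveI : Fact q.Prime := ⟨Nat.prime_of_mem_primeFactors hq⟩
      exact (hHp q hq hmq).isNilpotent
  -- the action on `R`
  set α : H →* MulAut R := (MulAut.conjNormal (H := R)).comp H.subtype with hα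
  set C := α.ker with hC
  let stab : (R →* ℂˣ) → Subgroup H := fun f =>
    { carrier := {h | ∀ r, f (α h r) = f r}
      one_mem' := fun r => by simp
      mul_mem' := fun {a b} ha hb r => by rw [map_mul, MulAut.mul_apply, ha, hb]
      inv_mem' := fun {a} ha r => by rw [← ha (α a⁻¹ r), ← MulAut.mul_apply, ← map_mul]; simp }
  have hCle : ∀ f, C ≤ stab f := fun f h hh r => by
    rw [MonoidHom.mem_ker.1 hh, MulAut.one_apply]
  have hsep : ∀ h : H, h ∉ C → ∃ f, h ∉ stab f := fun h hh => by
    by_contra hcon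
    push Not at hcon
    exact hh (MonoidHom.mem_ker.2 (MulEquiv.ext fun r => eq_of_forall_hom_eq hRab fun f => hcon f r))
  have hfacts : ∀ f, stab f ≠ ⊤ → (stab f).index = m ∧ ∀ a ∈ stab f, ∀ b ∈ stab f, a * b = b * a :=
    fun f hf => stabilizer_facts hm1 hcd hc f (stab f) (fun h => forall_congr' fun r => Iff.rfl) hf
  by_cases hCtop : C = ⊤
  · -- `R` is central
    have hcomm : ∀ (h : H) (r : R), (h : G) * r = r * h := fun h r => by
      have h1 := congrArg (fun e : MulAut R => (e r : G))
        (MonoidHom.mem_ker.1 (hCtop ▸ Subgroup.mem_top h : h ∈ C))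
      simp only [MulAut.one_apply] at h1
      exact mul_inv_eq_iff_eq_mul.1 h1
    have hsplit : ∀ g : G, ∃ r : R, g = r * (proj hc g : G) := fun g =>
      ⟨⟨_, mul_inv_proj_mem hc g⟩, by simp⟩
    have hcentral : ∀ a ∈ R, ∀ g : G, a * g = g * a := fun a ha g => by
      obtain ⟨r, hr⟩ := hsplit g
      have h1 := hcomm (proj hc g) ⟨a, ha⟩
      have h2 := congrArg Subtype.val (hRab ⟨a, ha⟩ r)
      simp only [Subgroup.coe_mul] at h1 h2
      rw [hr, ← mul_assoc, h2, mul_assoc, ← h1, mul_assoc]
    by_cases h : ∀ q ∈ m.primeFactors, m ≠ q ^ m.factorization q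
    · exfalso
      have hab : ∀ a b : G, a * b = b * a := fun a b => by
        obtain ⟨r, hr⟩ := hsplit a
        have h1 := congrArg Subtype.val (hHcomm h (proj hc a) (proj hc b))
        simp only [Subgroup.coe_mul] at h1
        obtain ⟨s, hs⟩ := hsplit b
        calc a * b = r * ((proj hc a : G) * b) := by
              conv_lhs => rw [hr]
              rw [mul_assoc]
          _ = r * (s * ((proj hc a : G) * (proj hc b : G))) := by
              conv_lhs => rw [hs]
              rw [← mul_assoc (proj hc a : G), hcomm (proj hc a) s, mul_assoc]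
          _ = s * (r * ((proj hc b : G) * (proj hc a : G))) := by
              have h2 : (r : G) * s = s * r := congrArg Subtype.val (hRab r s)
              rw [h1, ← mul_assoc, h2, mul_assoc]
          _ = b * a := by
              conv_rhs => rw [hs, hr]
              rw [← mul_assoc (r : G), ← hcomm (proj hc b) r]
              simp only [mul_assoc]
      have := degree_le_index χm ⊤ (fun a _ b _ => hab a b)
      rw [hχm, Subgroup.index_top] at this
      omega
    push Not at h
    obtain ⟨q, hq, hmq⟩ := h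
    refine Or.inr ⟨q, m.factorization q, Nat.prime_of_mem_primeFactors hq, hmq, H, R, ?_, hR,
      hHp q hq hmq, fun a ha b hb => congrArg Subtype.val (hRab ⟨a, ha⟩ ⟨b, hb⟩), hcentral,
      hc.disjoint.symm.eq_bot, (sup_comm H R).trans hc.sup_eq_top⟩
    refine ⟨fun x hx g => ?_⟩
    obtain ⟨r, hr⟩ := hsplit g
    have h1 : (proj hc g : G) * x * (proj hc g : G)⁻¹ ∈ H :=
      mul_mem (mul_mem (proj hc g).2 hx) (inv_mem (proj hc g).2)
    have h2 : g * x * g⁻¹ = (proj hc g : G) * x * (proj hc g : G)⁻¹ := by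
      generalize proj hc g = y at hr h1 ⊢
      subst hr
      have h3 := hcomm ⟨_, h1⟩ r
      simp only at h3
      calc (r : G) * (y : G) * x * ((r : G) * (y : G))⁻¹
          = r * ((y : G) * x * (y : G)⁻¹) * (r : G)⁻¹ := by group
        _ = ((y : G) * x * (y : G)⁻¹) * r * (r : G)⁻¹ := by rw [h3]
        _ = _ := mul_inv_cancel_right _ _
    exact h2 ▸ h1
  · obtain ⟨h₀, hh₀⟩ : ∃ h, h ∉ C := by
      by_contra h
      push Not at h
      exact hCtop (eq_top_iff.2 fun x _ => h x)
    obtain ⟨f₀, hf₀⟩ := hsep h₀ hh₀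
    have hT₀top : stab f₀ ≠ ⊤ := fun h => hf₀ (h ▸ Subgroup.mem_top h₀)
    obtain ⟨hT₀m, hT₀ab⟩ := hfacts f₀ hT₀top
    set π := QuotientGroup.mk' C with hπ
    -- an element of `stab f₀` central modulo `C` lies in `C`
    have hclaim : ∀ z ∈ stab f₀, (∀ h, π z * π h = π h * π z) → z ∈ C := by
      intro z hz hzc
      by_contra hzC
      obtain ⟨f, hf⟩ := hsep z hzC
      have hαc : ∀ (i : ℕ) (h : H), α (z ^ i) * α h = α h * α (z ^ i) := fun i h => by
        have h1 : Commute (π (z ^ i)) (π h) := by
          rw [map_pow]; exact Commute.pow_left (hzc h) i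
        rw [← map_mul, ← map_mul]
        refine (MonoidHom.eq_iff α).2 ?_
        exact QuotientGroup.eq.1 (show π (h * z ^ i) = π (z ^ i * h) by
          rw [map_mul, map_mul]; exact h1.eq.symm)
      set n := orderOf z with hn
      let nrm : (R →* ℂˣ) → (R →* ℂˣ) := fun u =>
        ∏ i ∈ Finset.range n, u.comp (α (z ^ i)).toMonoidHom
      have hnrm : ∀ u r, nrm u r = ∏ i ∈ Finset.range n, u (α (z ^ i) r) := fun u r => by
        simp [nrm]
      have hnrm_mul : ∀ u v, nrm (u * v) = nrm u * nrm v := fun u v => by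
        ext r
        simp [hnrm, Finset.prod_mul_distrib]
      have hzfix : ∀ u r, nrm u (α z r) = nrm u r := fun u r => by
        rw [hnrm, hnrm]
        have h1 : ∀ i, u (α (z ^ i) (α z r)) = u (α (z ^ (i + 1)) r) := fun i => by
          rw [← MulAut.mul_apply, ← map_mul, ← pow_succ]
        rw [Finset.prod_congr rfl fun i _ => h1 i]
        have h2 := Finset.prod_range_succ' (fun i => u (α (z ^ i) r)) n
        rw [Finset.prod_range_succ] at h2
        simp only [pow_orderOf_eq_one, hn, pow_zero] at h2 ⊢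
        exact mul_right_cancel h2.symm
      have hfixpow : ∀ (u : R →* ℂˣ), (∀ r, u (α z r) = u r) → ∀ (i : ℕ) r, u (α (z ^ i) r) = u r :=
        fun u hu i => by
        induction i with
        | zero => intro r; simp
        | succ i ih => intro r; rw [pow_succ, map_mul, MulAut.mul_apply, ih, hu]
      have hnrm_fixed : ∀ (u : R →* ℂˣ), (∀ r, u (α z r) = u r) → nrm u = u ^ n := fun u hu => by
        ext r
        rw [hnrm, Finset.prod_congr rfl (fun i _ => hfixpow u hu i r), Finset.prod_const,
          Finset.card_range]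
        rfl
      have hcop : (Nat.card R).Coprime n := by
        refine hco.coprime_dvd_right ?_
        rw [← hHcard]
        exact orderOf_dvd_natCard z
      have hinj : ∀ (u : R →* ℂˣ) (x y : R), u x ^ n = u y ^ n → u x = u y := by
        intro u x y h
        have h1 : u (x * y⁻¹) ^ n = 1 := by
          rw [map_mul, map_inv, mul_pow, h, inv_pow, mul_inv_cancel]
        have h2 : u (x * y⁻¹) ^ Nat.card R = 1 := by rw [← map_pow, pow_card_eq_one', map_one]
        have h3 := pow_gcd_eq_one.2 (And.intro h2 h1)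
        rw [hcop.gcd_eq_one, pow_one, map_mul, map_inv, mul_inv_eq_one] at h3
        exact h3
      set f₂ := f ^ n * (nrm f)⁻¹ with hf₂
      have hf₂nrm : ∀ r, nrm f₂ r = 1 := fun r => by
        have h2 : nrm ((nrm f)⁻¹) r = ((nrm f r)⁻¹) ^ n := by
          rw [hnrm_fixed _ fun r => by simp only [MonoidHom.inv_apply, hzfix]]
          rfl
        have h1 : nrm (f ^ n) r = nrm f r ^ n := by
          rw [hnrm, hnrm, ← Finset.prod_pow]
          rfl
        rw [hf₂, hnrm_mul, MonoidHom.mul_apply, h1, h2, inv_pow, mul_inv_cancel]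
      have hf₂z : ¬ ∀ r, f₂ (α z r) = f₂ r := fun h => hf fun r => by
        have h1 := h r
        simp only [hf₂, MonoidHom.mul_apply, MonoidHom.inv_apply, hzfix, MonoidHom.pow_apply] at h1
        exact hinj f _ _ (mul_right_cancel h1)
      have hμle : stab (f₀ * f₂) ≤ stab f₀ := by
        intro h hh r
        have h1 : nrm (f₀ * f₂) (α h r) = nrm (f₀ * f₂) r := by
          rw [hnrm, hnrm]
          refine Finset.prod_congr rfl fun i _ => ?_
          rw [← MulAut.mul_apply, hαc i h, MulAut.mul_apply]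
          exact hh _
        rw [hnrm_mul, MonoidHom.mul_apply, MonoidHom.mul_apply, hf₂nrm, hf₂nrm, mul_one, mul_one,
          hnrm_fixed f₀ (fun r => hz r)] at h1
        simp only [MonoidHom.pow_apply] at h1
        exact hinj f₀ _ _ h1
      have hμz : z ∉ stab (f₀ * f₂) := fun h => hf₂z fun r => by
        have h1 := h r
        simp only [MonoidHom.mul_apply, hz r] at h1
        exact mul_left_cancel h1
      obtain ⟨hμm, -⟩ := hfacts (f₀ * f₂) fun h => hμz (h ▸ Subgroup.mem_top z)
      refine hμz (?_ : z ∈ stab (f₀ * f₂))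
      have h1 := Subgroup.relIndex_mul_index hμle
      rw [hμm, hT₀m] at h1
      have h2 : (stab (f₀ * f₂)).relIndex (stab f₀) = 1 := Nat.eq_of_mul_eq_mul_right hmpos
        (h1.trans (one_mul m).symm)
      exact Subgroup.relIndex_eq_one.1 h2 hz
    -- the quotient by `C` is abelian
    have hQab : ∀ a b : H ⧸ C, a * b = b * a := by
      haveI : Nontrivial (H ⧸ C) := QuotientGroup.nontrivial_iff.2 hCtop
      haveI : Group.IsNilpotent (H ⧸ C) :=
        Group.nilpotent_of_surjective π (QuotientGroup.mk'_surjective C)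
      haveI : Nontrivial (Subgroup.center (H ⧸ C)) := by
        rw [Subgroup.nontrivial_iff_ne_bot]
        exact (Group.IsNilpotent.center_ne_bot (G := H ⧸ C))
      obtain ⟨⟨zb, hzb⟩, hzne⟩ := exists_ne (1 : Subgroup.center (H ⧸ C))
      obtain ⟨z, rfl⟩ := QuotientGroup.mk'_surjective C zb
      have hz0 : z ∉ stab f₀ := fun h => hzne (Subtype.ext ((QuotientGroup.eq_one_iff z).2
        (hclaim z h fun k => (Subgroup.mem_center_iff.1 hzb (π k)).symm)))
      set T' := (stab f₀).map π with hT'
      have hT'ab : ∀ a ∈ T', ∀ b ∈ T', a * b = b * a := by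
        rintro _ ⟨a, ha, rfl⟩ _ ⟨b, hb, rfl⟩
        rw [← map_mul, ← map_mul, hT₀ab a ha b hb]
      set U := T' ⊔ Subgroup.zpowers (π z) with hU
      haveI hT'c : IsMulCommutative U := by
        rw [hU, ← Subgroup.closure_eq T', Subgroup.zpowers_eq_closure, ← Subgroup.closure_union]
        refine Subgroup.isMulCommutative_closure (fun a ha b hb => ?_)
        rcases ha with ha | rfl <;> rcases hb with hb | rfl
        · exact hT'ab a ha b hb
        · exact Subgroup.mem_center_iff.1 hzb a
        · exact (Subgroup.mem_center_iff.1 hzb b).symm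
        · rfl
      have hUlt : U.index < m := by
        have h1 : (T'.comap π) = stab f₀ := by
          rw [hT', Subgroup.comap_map_eq, QuotientGroup.ker_mk', sup_eq_left.2 (hCle f₀)]
        have h2 : T'.index = m := by
          rw [← hT₀m, ← h1, Subgroup.index_comap_of_surjective _ (QuotientGroup.mk'_surjective C)]
        have h3 := Subgroup.relIndex_mul_index (le_sup_left : T' ≤ U)
        have h4 : T'.relIndex U ≠ 1 := fun h => hz0 (by
          rw [← h1, Subgroup.mem_comap]
          exact Subgroup.relIndex_eq_one.1 h (Subgroup.mem_sup_right (Subgroup.mem_zpowers _)))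
        have h5 : T'.relIndex U ≠ 0 := Subgroup.index_ne_zero_of_finite
        have h6 : 0 < U.index := Nat.pos_of_ne_zero Subgroup.index_ne_zero_of_finite
        have h7 := Nat.mul_le_mul_right U.index (show 2 ≤ T'.relIndex U by omega)
        rw [← hU] at h3
        omega
      refine comm_of_degree_one fun η => ?_
      have hd := degree_le_index η U fun a ha b hb =>
        congrArg Subtype.val (hT'c.is_comm.comm ⟨a, ha⟩ ⟨b, hb⟩)
      rcases degree_cond_quotient m hcd (π.comp (proj hc))
        ((QuotientGroup.mk'_surjective C).comp fun h => ⟨h, proj_coe hc h⟩) η with h | h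
      · exact h
      · omega
    have hT₀C : stab f₀ = C :=
      le_antisymm (fun z hz => hclaim z hz fun h => hQab _ _) (hCle f₀)
    refine Or.inl ⟨C.comap (proj hc), inferInstance, fun a ha b hb => ?_, ?_, fun a b => ?_⟩
    · have hcomm : ∀ h ∈ C, ∀ r : R, (h : G) * r = r * h := fun h hh r => by
        have h1 := congrArg (fun e : MulAut R => (e r : G)) (MonoidHom.mem_ker.1 hh)
        simp only [MulAut.one_apply] at h1
        exact mul_inv_eq_iff_eq_mul.1 h1
      have hCab := hT₀ab
      rw [hT₀C] at hCab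
      obtain ⟨r, hr⟩ : ∃ r : R, a = r * (proj hc a : G) := ⟨⟨_, mul_inv_proj_mem hc a⟩, by simp⟩
      obtain ⟨s, hs⟩ : ∃ s : R, b = s * (proj hc b : G) := ⟨⟨_, mul_inv_proj_mem hc b⟩, by simp⟩
      have e1 : (r : G) * s = s * r := congrArg Subtype.val (hRab r s)
      have e2 := congrArg Subtype.val (hCab _ ha _ hb)
      simp only [Subgroup.coe_mul] at e2
      have e3 := hcomm _ ha s
      have e4 := hcomm _ hb r
      rw [hr, hs]
      calc (r : G) * (proj hc a : G) * (s * (proj hc b : G))
          = r * ((proj hc a : G) * s) * (proj hc b : G) := by simp only [mul_assoc]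
        _ = r * s * ((proj hc a : G) * (proj hc b : G)) := by rw [e3]; simp only [mul_assoc]
        _ = s * r * ((proj hc b : G) * (proj hc a : G)) := by rw [e1, e2]
        _ = s * ((r : G) * (proj hc b : G)) * (proj hc a : G) := by simp only [mul_assoc]
        _ = s * ((proj hc b : G) * r) * (proj hc a : G) := by rw [e4]
        _ = _ := by simp only [mul_assoc]
    · rw [Subgroup.index_comap_of_surjective _ (fun h => ⟨_, proj_coe hc h⟩), ← hT₀C, hT₀m]
    · rw [Subgroup.mem_comap, ← QuotientGroup.eq_one_iff]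
      simp only [map_mul, map_inv, QuotientGroup.mk_mul, QuotientGroup.mk_inv]
      rw [hQab ((proj hc a : H) : H ⧸ C)]
      simp

end CfsgLib.TwoDeg
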