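import Cfsg.Agent.Lib.CharTools.Basic
import Cfsg.Agent.Lib.Char.Clifford
import Cfsg.Agent.Lib.Char.Ito
import Cfsg.Agent.S4456
import Mathlib.GroupTheory.SchurZassenhaus

/-!
# Groups with two character degrees
-/

set_option autoImplicit false

open scoped Classical
open CfsgLib

namespace CfsgLib.TwoDeg

universe u

variable {G : Type u} [Group G] [Finite G]

/-- A group with only linear irreducible characters is abelian. -/
theorem comm_of_degree_one (h : ∀ χ : Cfsg.IrrCharacter G, Cfsg.charDegree (χ : G → ℂ) = 1)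
    (a b : G) : a * b = b * a := by
  have h1 : IsConj (b * a) (a * b) := isConj_iff.2 ⟨a, by group⟩
  have hall : ∀ χ : Cfsg.IrrCharacter G, (χ : G → ℂ) (a * b * (b * a)⁻¹) = (χ : G → ℂ) 1 := by
    intro χ
    have h2 : (χ : G → ℂ) 1 = 1 := by rw [← CharTools.irr_degree_cast, h χ, Nat.cast_one]
    obtain ⟨f, hf⟩ := CfsgLib.Char.IsCharacter.exists_linear
      (CfsgLib.Char.IsIrrCharacter.isCharacter χ.2) h2
    simp only [hf, map_mul, map_inv, map_one]
    rw [mul_comm (f b) (f a), mul_inv_cancel]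
  have h3 : IsConj (a * b * (b * a)⁻¹) 1 := CfsgLib.Char.isConj_of_forall_eq fun χ hχ => hall ⟨χ, hχ⟩
  exact mul_inv_eq_one.1 (isConj_one_left.1 h3)

/-- A degree is at most the index of an abelian subgroup. -/
theorem degree_le_index (χ : Cfsg.IrrCharacter G) (A : Subgroup G)
    (hA : ∀ a ∈ A, ∀ b ∈ A, a * b = b * a) : Cfsg.charDegree (χ : G → ℂ) ≤ A.index := by
  haveI := Fintype.ofFinite G
  haveI := Fintype.ofFinite A
  have hres := CfsgLib.Char.IsCharacter.restrict (CfsgLib.Char.IsIrrCharacter.isCharacter χ.2) A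
  obtain ⟨η, hη⟩ := CharTools.exists_constituent hres (fun h0 => CharTools.irr_apply_one_ne_zero χ (by
    simpa using congrFun h0 1))
  have hη1 : Cfsg.charDegree (η : A → ℂ) = 1 := by
    obtain ⟨n, ρ, hρ, he⟩ := η.2
    haveI : IsMulCommutative A := ⟨⟨fun x y => Subtype.ext (hA x x.2 y y.2)⟩⟩
    haveI := hρ
    show CfsgLib.Char.degree (η : A → ℂ) = 1
    rw [← he, CfsgLib.Char.degree_character]
    exact Nat.dvd_one.1 (Subgroup.index_top (G := A) ▸
      CfsgLib.Char.finrank_dvd_index_of_abelian_normal ρ (⊤ : Subgroup A)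
        (fun x _ y _ => Subtype.ext (hA x x.2 y y.2)))
  have hind := CfsgLib.Char.IsCharacter.indFun (H := A) (CfsgLib.Char.IsIrrCharacter.isCharacter η.2)
  obtain ⟨k, hk, hdeg⟩ := CharTools.exists_degree_combination hind
  have hk0 : k χ ≠ 0 := fun h0 => hη (by
    have h2 := hk χ
    rw [CfsgLib.Char.classInner_indFun A _ _ (CfsgLib.Char.IsIrrCharacter.isClassFunction χ.2),
      ← CfsgLib.Char.classInner_conj_symm, h0, Nat.cast_zero, map_eq_zero] at h2
    exact h2)
  have hle : Cfsg.charDegree (χ : G → ℂ) ≤ Cfsg.charDegree (Cfsg.indFun A (η : A → ℂ)) := by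
    rw [hdeg]
    exact (Nat.le_mul_of_pos_left _ (Nat.pos_of_ne_zero hk0)).trans
      (Finset.single_le_sum (f := fun ψ : Cfsg.IrrCharacter G => k ψ * Cfsg.charDegree (ψ : G → ℂ))
        (fun _ _ => Nat.zero_le _) (Finset.mem_univ χ))
  refine hle.trans (le_of_eq (Nat.cast_injective (R := ℂ) ?_))
  rw [CharTools.degree_cast hind, CfsgLib.Char.indFun_apply_one, ← CharTools.irr_degree_cast, hη1,
    Nat.cast_one, mul_one]

/-- The degree condition passes to quotients. -/
theorem degree_cond_quotient (m : ℕ)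
    (hcd : ∀ χ : Cfsg.IrrCharacter G, Cfsg.charDegree (χ : G → ℂ) = 1 ∨ Cfsg.charDegree (χ : G → ℂ) = m)
    {H : Type u} [Group H] (π : G →* H) (hπ : Function.Surjective π) (η : Cfsg.IrrCharacter H) :
    Cfsg.charDegree (η : H → ℂ) = 1 ∨ Cfsg.charDegree (η : H → ℂ) = m := by
  have h := hcd ⟨_, CharTools.isIrrCharacter_comp π hπ η.2⟩
  have heq : Cfsg.charDegree (fun g => (η : H → ℂ) (π g)) = Cfsg.charDegree (η : H → ℂ) := by
    simp [Cfsg.charDegree, map_one]
  rwa [heq] at h

variable {m : ℕ} (hm1 : m ≠ 1)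
  (hcd : ∀ χ : Cfsg.IrrCharacter G, Cfsg.charDegree (χ : G → ℂ) = 1 ∨ Cfsg.charDegree (χ : G → ℂ) = m)

include hm1 hcd in
/-- The intersection of the normal `p`-complements. -/
theorem exists_normal_hall (s : Finset ℕ) (hs : ∀ p ∈ s, p.Prime ∧ p ∣ m) :
    ∃ R : Subgroup G, R.Normal ∧ (∀ p ∈ s, ¬ p ∣ Nat.card R) ∧
      (∀ q, q.Prime → q ∣ R.index → q ∈ s) ∧
      ∀ a b : G, (∀ q ∈ s, m ≠ q ^ m.factorization q) → a * b * a⁻¹ * b⁻¹ ∈ R := by
  induction s using Finset.induction_on with
  | empty =>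
    exact ⟨⊤, inferInstance, by simp, fun q hq h => absurd (Nat.dvd_one.1 (Subgroup.index_top (G := G) ▸ h)) hq.ne_one,
      fun _ _ _ => Subgroup.mem_top _⟩
  | insert p s hps ih =>
    obtain ⟨R, hR, hR1, hR2, hR3⟩ := ih fun q hq => hs q (Finset.mem_insert_of_mem hq)
    obtain ⟨hp, hpm⟩ := hs p (Finset.mem_insert_self p s)
    obtain ⟨N, hN, hNco, k, hk⟩ := Cfsg.Agent.S4456.result (G := G) p hp fun χ hχ =>
      ((hcd χ).resolve_left hχ).symm ▸ hpm
    haveI := hR
    haveI := hN
    refine ⟨R ⊓ N, inferInstance, fun q hq hd => ?_, fun q hq hd => ?_, fun a b hab => ?_⟩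
    · rcases Finset.mem_insert.1 hq with rfl | hq
      · exact hp.ne_one (Nat.dvd_one.1 (hNco ▸ Nat.dvd_gcd
          (hd.trans (Subgroup.card_dvd_of_le inf_le_right)) dvd_rfl))
      · exact hR1 q hq (hd.trans (Subgroup.card_dvd_of_le inf_le_left))
    · have h1 : (R ⊓ N).index ∣ R.index * N.index := by
        rw [← Subgroup.relIndex_mul_index (inf_le_left : R ⊓ N ≤ R), mul_comm R.index]
        rw [Subgroup.inf_relIndex_left]
        exact Nat.mul_dvd_mul_right (Subgroup.relIndex_dvd_index_of_normal N R) _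
      rcases hq.dvd_mul.1 (hd.trans h1) with h | h
      · exact Finset.mem_insert_of_mem (hR2 q hq h)
      · rw [(Nat.prime_dvd_prime_iff_eq hq hp).1 (hq.dvd_of_dvd_pow (hk ▸ h))]
        exact Finset.mem_insert_self _ _
    · refine ⟨hR3 a b fun q hq => hab q (Finset.mem_insert_of_mem hq), ?_⟩
      -- the quotient by `N` is a `p`-group whose degrees are linear
      have hlin : ∀ η : Cfsg.IrrCharacter (G ⧸ N), Cfsg.charDegree (η : G ⧸ N → ℂ) = 1 := by
        intro η
        rcases degree_cond_quotient m hcd (QuotientGroup.mk' N) (QuotientGroup.mk'_surjective N) η with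
          h | h
        · exact h
        · exfalso
          have hd := CharTools.degree_dvd_card η
          rw [h, ← Subgroup.index_eq_card, hk] at hd
          obtain ⟨i, -, hi⟩ := (Nat.dvd_prime_pow hp).1 hd
          refine hab p (Finset.mem_insert_self p s) ?_
          rw [hi, Nat.Prime.factorization_pow hp, Finsupp.single_eq_same]
      have h := comm_of_degree_one hlin (a : G ⧸ N) b
      show a * b * a⁻¹ * b⁻¹ ∈ N
      rw [← QuotientGroup.eq_one_iff]
      simp [h]

/-- A complement of a normal subgroup is isomorphic to the quotient. -/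
noncomputable def compEquiv {R H : Subgroup G} [R.Normal] (hc : R.IsComplement' H) : H ≃* G ⧸ R :=
  MulEquiv.ofBijective ((QuotientGroup.mk' R).comp H.subtype)
    ⟨(injective_iff_map_eq_one _).2 fun x hx => Subtype.ext (Subgroup.disjoint_def.1 hc.disjoint
      ((QuotientGroup.eq_one_iff (x : G)).1 hx) x.2), fun q => by
      obtain ⟨g, rfl⟩ := QuotientGroup.mk_surjective q
      obtain ⟨r, hr, h, hh, rfl⟩ := (Subgroup.mem_sup_of_normal_left (t := H)).1
        (hc.sup_eq_top ▸ Subgroup.mem_top g : g ∈ R ⊔ H)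
      exact ⟨⟨h, hh⟩, by simp [(QuotientGroup.eq_one_iff r).2 hr]⟩⟩

/-- The projection onto a complement of a normal subgroup. -/
noncomputable def proj {R H : Subgroup G} [R.Normal] (hc : R.IsComplement' H) : G →* H :=
  (compEquiv hc).symm.toMonoidHom.comp (QuotientGroup.mk' R)

theorem mk_proj {R H : Subgroup G} [R.Normal] (hc : R.IsComplement' H) (g : G) :
    ((proj hc g : G) : G ⧸ R) = (g : G ⧸ R) :=
  (compEquiv hc).apply_symm_apply (g : G ⧸ R)

theorem proj_coe {R H : Subgroup G} [R.Normal] (hc : R.IsComplement' H) (h : H) :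
    proj hc (h : G) = h :=
  (compEquiv hc).symm_apply_apply h

theorem mul_inv_proj_mem {R H : Subgroup G} [R.Normal] (hc : R.IsComplement' H) (g : G) :
    g * (proj hc g : G)⁻¹ ∈ R := by
  rw [← QuotientGroup.eq_one_iff, QuotientGroup.mk_mul, QuotientGroup.mk_inv, mk_proj hc g,
    mul_inv_cancel]

theorem proj_eq_one {R H : Subgroup G} [R.Normal] (hc : R.IsComplement' H) {r : G} (hr : r ∈ R) :
    proj hc r = 1 := by
  show (compEquiv hc).symm (r : G ⧸ R) = 1
  rw [(QuotientGroup.eq_one_iff r).2 hr, map_one]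

include hm1 hcd in
/-- A moved linear character of `R` has abelian stabilizer of index `m` in a complement. -/
theorem stabilizer_facts {R H : Subgroup G} [R.Normal] (hc : R.IsComplement' H) (f : R →* ℂˣ)
    (T : Subgroup H)
    (hT : ∀ h : H, h ∈ T ↔ ∀ r : R,
      f ⟨h * r * (h : G)⁻¹, (inferInstance : R.Normal).conj_mem r r.2 h⟩ = f r)
    (hTtop : T ≠ ⊤) : T.index = m ∧ ∀ a ∈ T, ∀ b ∈ T, a * b = b * a := by
  haveI := Fintype.ofFinite G
  haveI := Fintype.ofFinite R
  set θ : R → ℂ := fun r => (f r : ℂ) with hθ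
  have hθirr : Cfsg.IsIrrCharacter R θ := CfsgLib.Char.isIrrCharacter_linear f
  have hfr : ∀ x y : R, f (x * y * x⁻¹) = f y := fun x y => by
    rw [map_mul, map_mul, map_inv, mul_inv_cancel_comm]
  set S := T.comap (proj hc) with hS
  have hSiff : ∀ g : G, g ∈ S ↔ CharTwist.conjFun R θ g = θ := by
    intro g
    rw [hS, Subgroup.mem_comap, hT, funext_iff]
    refine forall_congr' fun r => ?_
    simp only [CharTwist.conjFun, hθ, Units.val_inj]
    have hconj := hfr ⟨_, mul_inv_proj_mem hc g⟩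
      ⟨(proj hc g : G) * r * (proj hc g : G)⁻¹, (inferInstance : R.Normal).conj_mem r r.2 _⟩
    rw [← hconj]
    refine Eq.congr (congrArg f (Subtype.ext ?_)) rfl
    simp [mul_assoc]
  have hRS : R ≤ S := fun r hr => by
    rw [hS, Subgroup.mem_comap, proj_eq_one hc hr]
    exact T.one_mem
  haveI := Fintype.ofFinite S
  have hsurj : Function.Surjective (proj hc) := fun h => ⟨h, proj_coe hc h⟩
  have hidx : S.index = T.index := Subgroup.index_comap_of_surjective T hsurj
  -- the extension of `f` to `S`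
  let e : S →* ℂˣ :=
    { toFun := fun s => f ⟨_, mul_inv_proj_mem hc (s : G)⟩
      map_one' := by
        rw [← map_one f]
        exact congrArg f (Subtype.ext (by simp))
      map_mul' := fun s t => by
        have hfix := (hT _).1 (Subgroup.mem_comap.1 s.2) ⟨_, mul_inv_proj_mem hc (t : G)⟩
        rw [← hfix, ← map_mul]
        exact congrArg f (Subtype.ext (by simp [mul_assoc])) }
  have key : ∀ θ' : Cfsg.IrrCharacter T,
      T.index * Cfsg.charDegree (θ' : T → ℂ) = 1 ∨ T.index * Cfsg.charDegree (θ' : T → ℂ) = m := by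
    intro θ'
    let π : S →* T := ((proj hc).comp S.subtype).codRestrict T fun s => Subgroup.mem_comap.1 s.2
    have hπ : Function.Surjective π := fun t =>
      ⟨⟨(t : H), by rw [hS, Subgroup.mem_comap, proj_coe]; exact t.2⟩,
        Subtype.ext (proj_coe hc _)⟩
    have hψ := CfsgLib.Char.IsIrrCharacter.linear_mul (CharTools.isIrrCharacter_comp π hπ θ'.2) e
    have hres : (fun n : R => (fun s : S => (e s : ℂ) * (θ' : T → ℂ) (π s)) ⟨n, hRS n.2⟩) =
        ((θ' : T → ℂ) 1) • θ := by
      funext n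
      have h1 : π ⟨n, hRS n.2⟩ = 1 := Subtype.ext (proj_eq_one hc n.2)
      simp only [h1, Pi.smul_apply, smul_eq_mul, hθ]
      rw [mul_comm]
      refine congrArg (fun u : ℂˣ => (θ' : T → ℂ) 1 * (u : ℂ)) (congrArg f (Subtype.ext ?_))
      simp [proj_eq_one hc n.2]
    have hirr := Clifford.isIrrCharacter_indFun R S hRS hθirr hSiff hψ (by
      rw [hres, CfsgLib.Char.classInner_smul_left, CfsgLib.Char.classInner_irr_self hθirr, mul_one]
      exact CharTools.irr_apply_one_ne_zero θ')
    have hd : Cfsg.charDegree (Cfsg.indFun S fun s : S => (e s : ℂ) * (θ' : T → ℂ) (π s)) =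
        T.index * Cfsg.charDegree (θ' : T → ℂ) := by
      refine Nat.cast_injective (R := ℂ) ?_
      rw [CharTools.degree_cast (CfsgLib.Char.IsIrrCharacter.isCharacter hirr),
        CfsgLib.Char.indFun_apply_one, hidx, map_one, map_one, Units.val_one, one_mul, Nat.cast_mul,
        CharTools.irr_degree_cast]
    have := hcd ⟨_, hirr⟩
    rwa [hd] at this
  have hne : T.index ≠ 1 := fun h => hTtop (Subgroup.index_eq_one.1 h)
  have hidxm : T.index = m := by
    have h := key CfsgLib.Char.principalIrr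
    have h1 : Cfsg.charDegree ((CfsgLib.Char.principalIrr : Cfsg.IrrCharacter T) : T → ℂ) = 1 :=
      CharTools.charDegree_principal
    rw [h1, mul_one] at h
    exact h.resolve_left hne
  refine ⟨hidxm, fun a ha b hb => ?_⟩
  have h1 := comm_of_degree_one (G := T) (fun θ' => ?_) ⟨a, ha⟩ ⟨b, hb⟩
  · exact congrArg Subtype.val h1
  · have hpos : 0 < T.index := Nat.pos_of_ne_zero Subgroup.index_ne_zero_of_finite
    rcases key θ' with h | h
    · exact absurd (Nat.eq_one_of_mul_eq_one_right h) hne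
    · rw [hidxm] at h hpos
      exact Nat.eq_of_mul_eq_mul_left hpos (h.trans (mul_one m).symm)

end CfsgLib.TwoDeg
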