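import Cfsg.Agent.Lib.TwoDeg.Main
import Cfsg.Agent.Lib.Char.Monomial
import Cfsg.Agent.Lib.Solvable.Core

/-!
# Two degrees: the derived subgroup is abelian
-/

set_option autoImplicit false

open scoped Classical
open CfsgLib

namespace CfsgLib.TwoDeg

universe u

variable {G : Type u} [Group G] [Finite G]

/-- Taketa's step for a nilpotent group with degrees `1` and `m`. -/
theorem comm_derived_of_isNilpotent [Group.IsNilpotent G] (m : ℕ)
    (hcd : ∀ χ : Cfsg.IrrCharacter G, Cfsg.charDegree (χ : G → ℂ) = 1 ∨ Cfsg.charDegree (χ : G → ℂ) = m) :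
    ∀ a ∈ commutator G, ∀ b ∈ commutator G, a * b = b * a := by
  haveI := Fintype.ofFinite G
  have hlin : ∀ ψ : Cfsg.IrrCharacter G, Cfsg.charDegree (ψ : G → ℂ) = 1 →
      ∀ x ∈ commutator G, (ψ : G → ℂ) x = (ψ : G → ℂ) 1 := by
    intro ψ hψ x hx
    obtain ⟨f, hf⟩ := CfsgLib.Char.IsCharacter.exists_linear
      (CfsgLib.Char.IsIrrCharacter.isCharacter ψ.2) (by rw [← CharTools.irr_degree_cast, hψ, Nat.cast_one])
    rw [hf, hf, map_one, MonoidHom.mem_ker.1 (Abelianization.commutator_subset_ker f hx)]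
  intro a ha b hb
  have hall : ∀ χ : Cfsg.IrrCharacter G, (χ : G → ℂ) (a * b * (b * a)⁻¹) = (χ : G → ℂ) 1 := by
    intro χ
    have hd : a * b * (b * a)⁻¹ ∈ commutator G :=
      mul_mem (mul_mem ha hb) (inv_mem (mul_mem hb ha))
    by_cases h1 : Cfsg.charDegree (χ : G → ℂ) = 1
    · exact hlin χ h1 _ hd
    have hχm := (hcd χ).resolve_left h1
    obtain ⟨H, lam, hlam⟩ := Monomial.exists_linear_indFun (χ : G → ℂ) χ.2
    letI := Fintype.ofFinite H
    have hidx : H.index = m := by
      rw [← hχm]
      refine Nat.cast_injective (R := ℂ) ?_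
      rw [CharTools.irr_degree_cast, hlam, CfsgLib.Char.indFun_apply_one, map_one, Units.val_one,
        mul_one]
    -- the derived subgroup lies in `H`
    have hperm := CfsgLib.Char.IsCharacter.indFun (H := H)
      (CfsgLib.Char.IsIrrCharacter.isCharacter (CfsgLib.Char.isIrrCharacter_principal (G := H)))
    have hle : ∀ x ∈ commutator G, x ∈ H := by
      intro x hx
      obtain ⟨k, hk, hdeg⟩ := CharTools.exists_degree_combination hperm
      have hpdeg : Cfsg.charDegree (Cfsg.indFun H (fun _ => (1 : ℂ))) = m := by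
        refine Nat.cast_injective (R := ℂ) ?_
        rw [CharTools.degree_cast hperm, CfsgLib.Char.indFun_apply_one, mul_one, hidx]
      have hone : k CfsgLib.Char.principalIrr = 1 := by
        have h2 := hk CfsgLib.Char.principalIrr
        rw [CfsgLib.Char.classInner_indFun H _ _
          (CfsgLib.Char.IsIrrCharacter.isClassFunction CfsgLib.Char.principalIrr.2)] at h2
        have h3 : Cfsg.classInner (fun _ : H => (1 : ℂ))
            (fun h : H => (CfsgLib.Char.principalIrr : Cfsg.IrrCharacter G).1 h) = 1 := by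
          simpa using CfsgLib.Char.classInner_irr_self (CfsgLib.Char.isIrrCharacter_principal (G := H))
        exact Nat.cast_injective (R := ℂ) (h2.symm.trans (h3.trans Nat.cast_one.symm))
      rw [hpdeg] at hdeg
      have hsmall : ∀ ψ : Cfsg.IrrCharacter G, k ψ ≠ 0 → Cfsg.charDegree (ψ : G → ℂ) = 1 := by
        intro ψ hψ
        by_contra h2
        have h3 := (hcd ψ).resolve_left h2
        have hne : (CfsgLib.Char.principalIrr : Cfsg.IrrCharacter G) ≠ ψ := fun h =>
          h2 (h ▸ CharTools.charDegree_principal)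
        have h4 := Finset.sum_le_sum_of_subset
          (f := fun φ : Cfsg.IrrCharacter G => k φ * Cfsg.charDegree (φ : G → ℂ))
          (Finset.subset_univ {CfsgLib.Char.principalIrr, ψ})
        rw [Finset.sum_pair hne, hone, one_mul, h3, ← hdeg,
          show Cfsg.charDegree ((CfsgLib.Char.principalIrr : Cfsg.IrrCharacter G) : G → ℂ) = 1 from
            CharTools.charDegree_principal] at h4
        have h5 := Nat.le_mul_of_pos_left m (Nat.pos_of_ne_zero hψ)
        omega
      have heq := CfsgLib.Char.IsCharacter.eq_sum_classInner hperm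
      have hval : Cfsg.indFun H (fun _ => (1 : ℂ)) x = Cfsg.indFun H (fun _ => (1 : ℂ)) 1 := by
        rw [heq]
        simp only [Finset.sum_apply, Pi.smul_apply, smul_eq_mul]
        refine Finset.sum_congr rfl fun ψ _ => ?_
        by_cases hψ : k ψ = 0
        · simp [hk, hψ]
        · rw [hlin ψ (hsmall ψ hψ) x hx]
      by_contra hxH
      rw [CfsgLib.Char.indFun_apply, CfsgLib.Char.indFun_apply] at hval
      have hcne : (Nat.card H : ℂ)⁻¹ ≠ 0 := inv_ne_zero (Nat.cast_ne_zero.2 Nat.card_pos.ne')
      have hval' := mul_left_cancel₀ hcne hval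
      have hterm : ∀ g : G, Cfsg.extendByZero H (fun _ : H => (1 : ℂ)) g =
          if g ∈ H then 1 else 0 := fun g => by
        split_ifs with hg
        · rw [CfsgLib.Char.extendByZero_apply_mem H _ hg]
        · rw [CfsgLib.Char.extendByZero_of_notMem H _ hg]
      simp only [hterm, mul_one, inv_mul_cancel, one_mem, if_true, ← Finset.natCast_card_filter,
        Finset.sum_boole] at hval'
      rw [Finset.sum_const, Finset.card_univ, nsmul_eq_mul, mul_one, Nat.cast_inj] at hval'
      have h6 : (1 : G) ∈ Finset.univ.filter fun g : G => g⁻¹ * x * g ∈ H := by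
        rw [Finset.eq_univ_of_card _ hval']
        exact Finset.mem_univ _
      exact hxH (by simpa using (Finset.mem_filter.1 h6).2)
    rw [hlam, CfsgLib.Char.indFun_apply, CfsgLib.Char.indFun_apply]
    congr 1
    refine Finset.sum_congr rfl fun g _ => ?_
    have hga : g⁻¹ * a * g ∈ H := hle _ (by
      simpa using (inferInstance : (commutator G).Normal).conj_mem a ha g⁻¹)
    have hgb : g⁻¹ * b * g ∈ H := hle _ (by
      simpa using (inferInstance : (commutator G).Normal).conj_mem b hb g⁻¹)
    have he2 : g⁻¹ * (a * b * (b * a)⁻¹) * g =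
        ((⟨_, hga⟩ * ⟨_, hgb⟩ * (⟨_, hgb⟩ * ⟨_, hga⟩)⁻¹ : H) : G) := by
      simp [mul_assoc]
    rw [he2, mul_one, inv_mul_cancel, CfsgLib.Char.extendByZero_apply_mem H _ H.one_mem,
      CfsgLib.Char.extendByZero_apply_mem H _ (SetLike.coe_mem _)]
    simp only [Subtype.coe_eta, map_mul, map_inv]
    rw [mul_comm (lam ⟨_, hgb⟩) (lam ⟨_, hga⟩), mul_inv_cancel]
    exact congrArg Units.val (map_one lam).symm
  exact mul_inv_eq_one.1 (isConj_one_left.1
    (CfsgLib.Char.isConj_of_forall_eq fun χ hχ => hall ⟨χ, hχ⟩))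

/-- Groups with two degrees have abelian derived subgroup. -/
theorem comm_derived (m : ℕ)
    (hcd : ∀ χ : Cfsg.IrrCharacter G, Cfsg.charDegree (χ : G → ℂ) = 1 ∨ Cfsg.charDegree (χ : G → ℂ) = m)
    (hm : ∃ χ : Cfsg.IrrCharacter G, Cfsg.charDegree (χ : G → ℂ) = m) (hm1 : m ≠ 1) :
    ∀ a ∈ commutator G, ∀ b ∈ commutator G, a * b = b * a := by
  rcases structure_two_degrees m hcd hm hm1 with
    ⟨A, hA, hab, -, hcomm⟩ | ⟨p, e, hp, -, P, A, hPn, hAn, hP, hab, -, -, hsup⟩
  · have hle : commutator G ≤ A := by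
      rw [commutator_def, Subgroup.commutator_le]
      exact fun a _ b _ => hcomm a b
    exact fun a ha b hb => hab a (hle ha) b (hle hb)
  · haveI : Fact p.Prime := ⟨hp⟩
    haveI : Group.IsNilpotent G := by
      have h := CfsgLib.Solvable.isNilpotent_sup_of_normal P A hPn hAn hP.isNilpotent
        (CfsgLib.Solvable.isNilpotent_of_comm fun x y => Subtype.ext (hab x x.2 y y.2))
      rw [hsup] at h
      exact Group.nilpotent_of_mulEquiv Subgroup.topEquiv
    exact comm_derived_of_isNilpotent m hcd

end CfsgLib.TwoDeg
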