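import Cfsg.Agent.Lib.TwoDeg.Main
import Cfsg.Agent.Lib.Transfer.PGroup
import Mathlib.GroupTheory.Nilpotent

/-!
# Isaacs 12.11: degrees `1` and `p` in a nilpotent group
-/

set_option autoImplicit false

open scoped Classical
open CfsgLib

namespace CfsgLib.TwoDeg

universe u

variable {G : Type u} [Group G] [Finite G] {p : ℕ} [hp : Fact p.Prime]

/-- In a nilpotent group a maximal abelian normal subgroup is its own centralizer. -/
theorem centralizer_le_of_maximal [Group.IsNilpotent G] (A : Subgroup G) [A.Normal]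
    (hA : ∀ a ∈ A, ∀ b ∈ A, a * b = b * a)
    (hmax : ∀ B : Subgroup G, B.Normal → (∀ a ∈ B, ∀ b ∈ B, a * b = b * a) → A ≤ B → B ≤ A) :
    Subgroup.centralizer (A : Set G) ≤ A := by
  by_contra hne
  set C := Subgroup.centralizer (A : Set G) with hC
  haveI : Group.IsNilpotent (G ⧸ A) :=
    Group.nilpotent_of_surjective (QuotientGroup.mk' A) (QuotientGroup.mk'_surjective A)
  haveI hCn : (C.map (QuotientGroup.mk' A)).Normal :=
    (inferInstance : C.Normal).map _ (QuotientGroup.mk'_surjective A)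
  have hCb : C.map (QuotientGroup.mk' A) ≠ ⊥ := by
    rwa [Ne, Subgroup.map_eq_bot_iff, QuotientGroup.ker_mk']
  obtain ⟨xb, hxb, hx1⟩ := (Subgroup.bot_or_exists_ne_one _).resolve_left
    (CfsgLib.Transfer.inf_center_ne_bot hCb)
  obtain ⟨x, hxC, rfl⟩ := hxb.1
  have hxA : x ∉ A := fun h => hx1 ((QuotientGroup.eq_one_iff x).2 h)
  set B := Subgroup.closure (insert x (A : Set G)) with hB
  have hAB : A ≤ B := fun a ha => Subgroup.subset_closure (Set.mem_insert_of_mem _ ha)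
  have hxB : x ∈ B := Subgroup.subset_closure (Set.mem_insert _ _)
  haveI : IsMulCommutative B := Subgroup.isMulCommutative_closure (by
    rintro a (rfl | ha) b (rfl | hb)
    · rfl
    · exact (Subgroup.mem_centralizer_iff.1 hxC b hb).symm
    · exact Subgroup.mem_centralizer_iff.1 hxC a ha
    · exact hA a ha b hb)
  have hBn : B.Normal := ⟨fun b hb g => by
    induction hb using Subgroup.closure_induction with
    | mem y hy =>
      rcases hy with rfl | hy
      · have h1 : g * y * g⁻¹ * y⁻¹ ∈ A := by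
          rw [← QuotientGroup.eq_one_iff]
          simp only [QuotientGroup.mk_mul, QuotientGroup.mk_inv]
          have h2 : (g : G ⧸ A) * (y : G ⧸ A) = (y : G ⧸ A) * (g : G ⧸ A) :=
            Subgroup.mem_center_iff.1 hxb.2 (g : G ⧸ A)
          rw [h2]; simp
        have h3 := B.mul_mem (hAB h1) hxB
        rwa [inv_mul_cancel_right] at h3
      · exact hAB (Subgroup.Normal.conj_mem ‹A.Normal› y hy g)
    | one => simp
    | mul a b _ _ ha hb =>
      rw [show g * (a * b) * g⁻¹ = (g * a * g⁻¹) * (g * b * g⁻¹) by group]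
      exact B.mul_mem ha hb
    | inv a _ ha =>
      rw [show g * a⁻¹ * g⁻¹ = (g * a * g⁻¹)⁻¹ by group]
      exact B.inv_mem ha⟩
  exact hxA (hmax B hBn (fun a ha b hb =>
    congrArg Subtype.val ((‹IsMulCommutative B›).is_comm.comm ⟨a, ha⟩ ⟨b, hb⟩)) hAB hxB)

/-- Two elements of an abelian `p`-torsion group: a power in the other cyclic group is trivial. -/
theorem dvd_of_zpow_mem {W : Type*} [Group W] {H : Subgroup W} {w : W} (hwp : w ^ p = 1)
    (hw : w ∉ H) {k : ℤ} (hk : w ^ k ∈ H) : (p : ℤ) ∣ k := by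
  by_contra hdvd
  obtain ⟨a, b, hab⟩ := (Nat.prime_iff_prime_int.1 hp.out).coprime_iff_not_dvd.2 hdvd
  refine hw ?_
  have h1 : w ^ (a * (p : ℤ) + b * k) = (w ^ k) ^ b := by
    rw [zpow_add, mul_comm a, zpow_mul, zpow_natCast, hwp, one_zpow, one_mul, mul_comm b, zpow_mul]
  rw [hab, zpow_one] at h1
  rw [h1]
  exact H.zpow_mem hk b

variable (hcd : ∀ χ : Cfsg.IrrCharacter G, Cfsg.charDegree (χ : G → ℂ) = 1 ∨ Cfsg.charDegree (χ : G → ℂ) = p)

/-- The stabilizer of a linear character of a normal subgroup. -/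
def linStab (A : Subgroup G) [hA : A.Normal] (f : A →* ℂˣ) : Subgroup G where
  carrier := {g | ∀ a : A, f ⟨g * a * g⁻¹, hA.conj_mem a a.2 g⟩ = f a}
  one_mem' := fun a => congrArg f (Subtype.ext (by simp))
  mul_mem' := fun {g h} hg hh a => by
    rw [← hh a, ← hg ⟨h * a * h⁻¹, hA.conj_mem a a.2 h⟩]
    exact congrArg f (Subtype.ext (by simp [mul_assoc]))
  inv_mem' := fun {g} hg a => by
    rw [← hg ⟨g⁻¹ * a * g⁻¹⁻¹, hA.conj_mem a a.2 g⁻¹⟩]
    exact congrArg f (Subtype.ext (by simp [mul_assoc]))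

include hcd in
/-- A moved linear character has stabilizer of index `p`, whose commutators it kills. -/
theorem linStab_facts (A : Subgroup G) [A.Normal] (hA : ∀ a ∈ A, ∀ b ∈ A, a * b = b * a)
    (f : A →* ℂˣ) : linStab A f = ⊤ ∨ ((linStab A f).index = p ∧
      ∀ x ∈ linStab A f, ∀ y ∈ linStab A f, ∀ h : x * y * x⁻¹ * y⁻¹ ∈ A, f ⟨_, h⟩ = 1) := by
  by_cases htop : linStab A f = ⊤
  · exact Or.inl htop
  refine Or.inr ?_
  haveI := Fintype.ofFinite G
  haveI := Fintype.ofFinite A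
  set S := linStab A f with hS
  haveI := Fintype.ofFinite S
  set θ : A → ℂ := fun a => (f a : ℂ) with hθ
  have hθirr : Cfsg.IsIrrCharacter A θ := CfsgLib.Char.isIrrCharacter_linear f
  have hSiff : ∀ g : G, g ∈ S ↔ CharTwist.conjFun A θ g = θ := fun g => by
    rw [funext_iff]
    exact forall_congr' fun a => Units.val_inj.symm
  have hAS : A ≤ S := fun g hg a => congrArg f (Subtype.ext (by
    show g * (a : G) * g⁻¹ = a
    rw [hA g hg a a.2, mul_inv_cancel_right]))
  have hind := CfsgLib.Char.IsCharacter.indFun (H := A) (CfsgLib.Char.IsIrrCharacter.isCharacter hθirr)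
  obtain ⟨χ, hχ⟩ := CharTools.exists_constituent hind fun h0 => by
    have h1 := congrFun h0 1
    rw [CfsgLib.Char.indFun_apply_one] at h1
    exact mul_ne_zero (Nat.cast_ne_zero.2 Subgroup.index_ne_zero_of_finite)
      (CfsgLib.Char.IsIrrCharacter.apply_one_ne_zero hθirr) h1
  rw [CfsgLib.Char.classInner_indFun A _ _ (CfsgLib.Char.IsIrrCharacter.isClassFunction χ.2),
    ← CfsgLib.Char.classInner_conj_symm, Ne, map_eq_zero] at hχ
  obtain ⟨ψ, hψ, hψχ, hψθ⟩ := Clifford.exists_indFun_eq A S hAS hθirr hSiff χ.2 hχ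
  have hd : Cfsg.charDegree (χ : G → ℂ) = S.index * Cfsg.charDegree ψ := by
    refine Nat.cast_injective (R := ℂ) ?_
    rw [CharTools.irr_degree_cast, ← hψχ, CfsgLib.Char.indFun_apply_one, Nat.cast_mul,
      CharTools.irr_degree_cast ⟨ψ, hψ⟩]
  have hne : S.index ≠ 1 := fun h => htop (Subgroup.index_eq_one.1 h)
  have hidx : S.index = p ∧ Cfsg.charDegree ψ = 1 := by
    rcases hcd χ with h | h
    · exact absurd (Nat.eq_one_of_mul_eq_one_right (hd ▸ h)) hne
    · have h1 : S.index = p :=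
        ((Nat.dvd_prime hp.out).1 (Dvd.intro _ (hd ▸ h))).resolve_left hne
      refine ⟨h1, ?_⟩
      rw [h, h1] at hd
      exact Nat.eq_of_mul_eq_mul_left hp.out.pos (hd.symm.trans (mul_one p).symm)
  refine ⟨hidx.1, fun x hx y hy h => ?_⟩
  obtain ⟨e, he⟩ := CfsgLib.Char.IsCharacter.exists_linear (CfsgLib.Char.IsIrrCharacter.isCharacter hψ)
    (by rw [show ψ 1 = (Cfsg.charDegree ψ : ℂ) from (CharTools.irr_degree_cast ⟨ψ, hψ⟩).symm,
      hidx.2, Nat.cast_one])
  have hres := Clifford.res_eq_smul_of_fixed A S hAS hθirr (fun t ht => (hSiff t).1 ht) hψ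
    (hψθ ▸ hχ)
  have h1 := congrFun hres ⟨_, h⟩
  have h2 := congrFun hres 1
  simp only [Pi.smul_apply, smul_eq_mul, hθ, map_one, Units.val_one, mul_one, he] at h1 h2
  have h3 : e (⟨((⟨_, h⟩ : A) : G), hAS h⟩ : S) = 1 := by
    rw [show (⟨((⟨_, h⟩ : A) : G), hAS h⟩ : S) = ⟨x, hx⟩ * ⟨y, hy⟩ * ⟨x, hx⟩⁻¹ * ⟨y, hy⟩⁻¹ from
      Subtype.ext (by simp), map_mul, map_mul, map_mul, map_inv, map_inv]
    rw [mul_comm (e ⟨x, hx⟩) (e ⟨y, hy⟩), mul_inv_cancel_right, mul_inv_cancel]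
  rw [h3, ← h2, show ((⟨((1 : A) : G), hAS (1 : A).2⟩ : S)) = 1 from Subtype.ext rfl, map_one,
    Units.val_one, one_mul] at h1
  exact Units.ext h1.symm

variable [Group.IsNilpotent G]

/-- An index `p` subgroup of a nilpotent group contains all commutators. -/
theorem commutator_mem_of_index_prime {S : Subgroup G} (hS : S.index = p) (x y : G) :
    x * y * x⁻¹ * y⁻¹ ∈ S := by
  haveI : S.Normal := by
    refine Subgroup.NormalizerCondition.normal_of_coatom S (Group.normalizerCondition_of_isNilpotent)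
      ⟨fun h => ?_, fun K hK => ?_⟩
    · rw [h, Subgroup.index_top] at hS
      exact hp.out.ne_one hS.symm
    · have h1 := Subgroup.relIndex_mul_index hK.le
      rw [hS] at h1
      rcases (Nat.dvd_prime hp.out).1 (Dvd.intro_left _ h1) with h | h
      · exact Subgroup.index_eq_one.1 h
      · exfalso
        rw [h] at h1
        have h2 : S.relIndex K = 1 := Nat.eq_of_mul_eq_mul_right hp.out.pos (h1.trans (one_mul p).symm)
        exact hK.not_ge (Subgroup.relIndex_eq_one.1 h2)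
  haveI : IsCyclic (G ⧸ S) := isCyclic_of_prime_card (p := p) (by rw [← Subgroup.index_eq_card, hS])
  rw [← QuotientGroup.eq_one_iff]
  simp only [QuotientGroup.mk_mul, QuotientGroup.mk_inv]
  rw [(IsCyclic.commGroup (α := G ⧸ S)).mul_comm (x : G ⧸ S) y]
  simp

include hcd in
/-- Two linear characters with different stabilizers share the fixed character generating their
orbits. -/
theorem exists_common (A : Subgroup G) [A.Normal] (hA : ∀ a ∈ A, ∀ b ∈ A, a * b = b * a)
    (f μ : A →* ℂˣ) (hμ : linStab A μ ≠ ⊤)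
    (hle : ¬ linStab A μ ≤ linStab A f) (hne : ¬ linStab A f ≤ linStab A μ) :
    ∃ u : A →* ℂˣ, u ≠ 1 ∧ u ^ p = 1 ∧ linStab A u = ⊤ ∧
      (∀ g, ∃ k : ℕ, ∀ a : A, f (MulAut.conjNormal g a) = f a * u a ^ k) ∧
      (∀ g, ∃ k : ℕ, ∀ a : A, μ (MulAut.conjNormal g a) = μ a * u a ^ k) := by
  set c := fun g : G => (MulAut.conjNormal g : MulAut A) with hc
  have hcm : ∀ g h a, c g (c h a) = c (g * h) a := fun g h a => by simp [hc, map_mul]
  have hmem : ∀ (v : A →* ℂˣ) g, g ∈ linStab A v ↔ ∀ a, v (c g a) = v a := fun v g => Iff.rfl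
  have hswap : ∀ (v : A →* ℂˣ), linStab A v ≠ ⊤ → ∀ g h a, v (c (g * h) a) = v (c (h * g) a) := by
    intro v hv g h a
    have h2 := (hmem v _).1 (commutator_mem_of_index_prime
      (((linStab_facts hcd A hA v).resolve_left hv).1) g h) (c (h * g) a)
    rw [hcm] at h2
    rw [← h2]
    congr 3
    group
  have hfmove : linStab A f ≠ ⊤ := fun h => hle (h ▸ le_top)
  obtain ⟨x, hxμ, hxf⟩ := SetLike.not_le_iff_exists.1 hle
  obtain ⟨y, hyf, hyμ⟩ := SetLike.not_le_iff_exists.1 hne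
  obtain ⟨hidx, -⟩ := (linStab_facts hcd A hA f).resolve_left hfmove
  -- powers of `x` represent the cosets
  have hcoset : ∀ (T : Subgroup G), T.index = p → ∀ z, z ∉ T → ∀ g, ∃ i : ℕ, g * (z ^ i)⁻¹ ∈ T := by
    intro T hT z hz g
    haveI : T.Normal := by
      refine ⟨fun n hn g => ?_⟩
      have h := T.mul_mem (commutator_mem_of_index_prime hT g n) hn
      rwa [inv_mul_cancel_right] at h
    have h1 : (g : G ⧸ T) ∈ Subgroup.zpowers (z : G ⧸ T) :=
      mem_zpowers_of_prime_card (by rw [← Subgroup.index_eq_card, hT])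
        (fun h => hz ((QuotientGroup.eq_one_iff z).1 h))
    rw [← mem_powers_iff_mem_zpowers] at h1
    obtain ⟨i, hi⟩ := h1
    refine ⟨i, ?_⟩
    rw [← QuotientGroup.eq_one_iff]
    simp only [QuotientGroup.mk_mul, QuotientGroup.mk_inv, QuotientGroup.mk_pow]
    simp only at hi
    rw [hi, mul_inv_cancel]
  have horb : ∀ (v : A →* ℂˣ), linStab A v ≠ ⊤ → ∀ z, z ∉ linStab A v → ∀ g, ∃ i : ℕ,
      ∀ a, v (c g a) = v (c (z ^ i) a) := by
    intro v hv z hz g
    obtain ⟨i, hi⟩ := hcoset _ ((linStab_facts hcd A hA v).resolve_left hv).1 z hz g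
    refine ⟨i, fun a => ?_⟩
    have h1 := (hmem v _).1 hi (c (z ^ i) a)
    rwa [hcm, inv_mul_cancel_right] at h1
  have hxT : x ∉ linStab A (f * μ) := fun h => hxf fun a => by
    have h1 := h a
    simp only [MonoidHom.mul_apply] at h1
    have h2 := hxμ a
    rw [h2] at h1
    exact mul_right_cancel h1
  have hTtop : linStab A (f * μ) ≠ ⊤ := fun h => hxT (h ▸ Subgroup.mem_top x)
  obtain ⟨i, hi⟩ := horb _ hTtop x hxT y
  have hxi : ∀ a, μ (c (x ^ i) a) = μ a := (hmem μ _).1 (pow_mem hxμ i)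
  have hu : ∀ a, μ (c y a) / μ a = f (c (x ^ i) a) / f a := fun a => by
    have h1 := hi a
    simp only [MonoidHom.mul_apply, hxi] at h1
    have h2 : f (c y a) = f a := hyf a
    rw [h2] at h1
    rw [div_eq_div_iff_mul_eq_mul, mul_comm, h1]
  let u : A →* ℂˣ := μ.comp (c y).toMonoidHom / μ
  have huμ : ∀ a, u a = μ (c y a) / μ a := fun a => rfl
  have huf : ∀ a, u a = f (c (x ^ i) a) / f a := fun a => (huμ a).trans (hu a)
  have hu1 : u ≠ 1 := fun h => hyμ fun a => by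
    have h1 := DFunLike.congr_fun h a
    rw [huμ, MonoidHom.one_apply, div_eq_one] at h1
    exact h1
  have hufix : linStab A u = ⊤ := by
    refine eq_top_iff.2 fun g _ => ?_
    obtain ⟨j, hj⟩ := hcoset _ ((linStab_facts hcd A hA μ).resolve_left hμ).1 y hyμ g
    have h1 : g * (y ^ j)⁻¹ ∈ linStab A u := (hmem u _).2 fun a => by
      rw [huμ, huμ, hcm, hswap μ hμ, ← hcm, (hmem μ _).1 hj, (hmem μ _).1 hj]
    have h2 : y ∈ linStab A u := (hmem u _).2 fun a => by
      rw [huf, huf, hcm, hswap f hfmove, ← hcm, (hmem f _).1 hyf, (hmem f _).1 hyf]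
    have h3 := mul_mem h1 (pow_mem h2 j)
    rwa [inv_mul_cancel_right] at h3
  have hufix' : ∀ g a, u (c g a) = u a := fun g =>
    (hmem u g).1 (hufix ▸ Subgroup.mem_top g)
  have hpow : ∀ (k : ℕ) a, f (c ((x ^ i) ^ k) a) = f a * u a ^ k := fun k => by
    induction k with
    | zero => intro a; simp [hc]
    | succ k ih =>
      intro a
      rw [pow_succ', ← hcm, show f (c (x ^ i) (c ((x ^ i) ^ k) a)) =
        u (c ((x ^ i) ^ k) a) * f (c ((x ^ i) ^ k) a) by rw [huf, div_mul_cancel], hufix', ih,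
        pow_succ, mul_comm (u a), mul_assoc]
  have hxiT : x ^ i ∉ linStab A f := fun h => hu1 (MonoidHom.ext fun a => by
    rw [huf, (hmem f _).1 h, div_self', MonoidHom.one_apply])
  have hpowμ : ∀ (k : ℕ) a, μ (c (y ^ k) a) = μ a * u a ^ k := fun k => by
    induction k with
    | zero => intro a; simp [hc]
    | succ k ih =>
      intro a
      rw [pow_succ', ← hcm, show μ (c y (c (y ^ k) a)) = u (c (y ^ k) a) * μ (c (y ^ k) a) by
        rw [huμ, div_mul_cancel], hufix', ih, pow_succ, mul_comm (u a), mul_assoc]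
  refine ⟨u, hu1, ?_, hufix, fun g => ?_, fun g => ?_⟩
  · refine MonoidHom.ext fun a => ?_
    obtain ⟨hidxf, -⟩ := (linStab_facts hcd A hA f).resolve_left hfmove
    haveI : (linStab A f).Normal := ⟨fun n hn g => by
      have h := (linStab A f).mul_mem (commutator_mem_of_index_prime hidxf g n) hn
      rwa [inv_mul_cancel_right] at h⟩
    have h1 : (x ^ i) ^ p ∈ linStab A f := hidxf ▸ Subgroup.pow_index_mem _ _
    have h2 := hpow p a
    rw [(hmem f _).1 h1] at h2
    rw [MonoidHom.one_apply]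
    exact left_eq_mul.1 h2
  · obtain ⟨k, hk⟩ := horb f hfmove (x ^ i) hxiT g
    exact ⟨k, fun a => (hk a).trans (hpow k a)⟩
  · obtain ⟨k, hk⟩ := horb μ hμ y hyμ g
    exact ⟨k, fun a => (hk a).trans (hpowμ k a)⟩

include hcd in
/-- A self-centralizing abelian normal subgroup of index greater than `p` is an extension of the
centre by an element of order `p`. -/
theorem exists_generator (A : Subgroup G) [A.Normal] (hA : ∀ a ∈ A, ∀ b ∈ A, a * b = b * a)
    (hC : Subgroup.centralizer (A : Set G) ≤ A) (h1 : A.index ≠ 1) (hp' : A.index ≠ p) :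
    Subgroup.center G ≤ A ∧ ∃ a ∈ A, a ∉ Subgroup.center G ∧ a ^ p ∈ Subgroup.center G ∧
      (∀ g, g * a * g⁻¹ * a⁻¹ ∈ Subgroup.center G) ∧
      ∀ b ∈ A, ∃ k : ℕ, b * (a ^ k)⁻¹ ∈ Subgroup.center G := by
  have hZA : Subgroup.center G ≤ A := (Subgroup.center_le_centralizer _).trans hC
  have hAab : ∀ a b : A, a * b = b * a := fun a b => Subtype.ext (hA a a.2 b b.2)
  have hstabA : ∀ x : G, (∀ f, x ∈ linStab A f) → x ∈ A := fun x hx => hC <| by
    rw [Subgroup.mem_centralizer_iff]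
    intro b hb
    have h := eq_of_forall_hom_eq hAab (x := ⟨x * b * x⁻¹, Subgroup.Normal.conj_mem ‹A.Normal› b hb x⟩)
      (y := ⟨b, hb⟩) fun f => hx f ⟨b, hb⟩
    exact (mul_inv_eq_iff_eq_mul.1 (congrArg Subtype.val h)).symm
  have hsupA : ∀ f, A ≤ linStab A f := fun f g hg a => congrArg f (Subtype.ext (by
    show g * (a : G) * g⁻¹ = a
    rw [hA g hg a a.2, mul_inv_cancel_right]))
  obtain ⟨f₀, hf₀⟩ : ∃ f, linStab A f ≠ ⊤ := by
    by_contra h
    push Not at h
    exact h1 (Subgroup.index_eq_one.2 (top_le_iff.1 fun x _ => hstabA x fun f => h f ▸ Subgroup.mem_top x))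
  -- every moved character has a partner with another stabilizer
  have hincomp : ∀ f μ, linStab A f ≠ ⊤ → linStab A μ ≠ ⊤ → linStab A f ≤ linStab A μ →
      linStab A f = linStab A μ := fun f μ hf hμ hle => by
    refine Subgroup.eq_of_le_of_card_ge hle (le_of_eq ?_)
    have e1 := (linStab A f).card_mul_index
    have e2 := (linStab A μ).card_mul_index
    rw [((linStab_facts hcd A hA f).resolve_left hf).1] at e1
    rw [((linStab_facts hcd A hA μ).resolve_left hμ).1] at e2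
    exact Nat.eq_of_mul_eq_mul_right hp.out.pos (e2.trans e1.symm)
  have hpartner : ∀ f, linStab A f ≠ ⊤ → ∃ μ, linStab A μ ≠ ⊤ ∧ linStab A μ ≠ linStab A f := by
    intro f hf
    by_contra h
    push Not at h
    have hle : linStab A f ≤ A := fun x hx => hstabA x fun μ => by
      by_cases hμ : linStab A μ = ⊤
      · rw [hμ]; trivial
      · rw [h μ hμ]; exact hx
    exact hp' (le_antisymm hle (hsupA f) ▸ ((linStab_facts hcd A hA f).resolve_left hf).1)
  have hpair : ∀ f μ, linStab A f ≠ ⊤ → linStab A μ ≠ ⊤ → linStab A μ ≠ linStab A f →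
      ∃ u : A →* ℂˣ, u ≠ 1 ∧ u ^ p = 1 ∧ linStab A u = ⊤ ∧
        (∀ g, ∃ k : ℕ, ∀ a : A, f (MulAut.conjNormal g a) = f a * u a ^ k) ∧
        (∀ g, ∃ k : ℕ, ∀ a : A, μ (MulAut.conjNormal g a) = μ a * u a ^ k) := fun f μ hf hμ hne =>
    exists_common hcd A hA f μ hμ (fun hle => hne (hincomp μ f hμ hf hle))
      (fun hle => hne (hincomp f μ hf hμ hle).symm)
  -- the shared character
  obtain ⟨μ₀, hμ₀, hne₀⟩ := hpartner f₀ hf₀
  obtain ⟨u, hu1, hup, hufix, huf, huμ⟩ := hpair f₀ μ₀ hf₀ hμ₀ hne₀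
  have hpnz : ∀ (v : A →* ℂˣ) (a : A), v ^ p = 1 → v a ^ p = 1 := fun v a h =>
    DFunLike.congr_fun h a
  have hker : ∀ a : A, u a = 1 → (a : G) ∈ Subgroup.center G := by
    intro a ha
    rw [Subgroup.mem_center_iff]
    intro g
    have h : (MulAut.conjNormal g a : A) = a := eq_of_forall_hom_eq hAab fun f => by
      by_cases hf : linStab A f = ⊤
      · exact (hf ▸ Subgroup.mem_top g : g ∈ linStab A f) a
      obtain ⟨r, hr, hrne, hru⟩ : ∃ r, linStab A r ≠ ⊤ ∧ linStab A r ≠ linStab A f ∧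
          ∀ g, ∃ k : ℕ, ∀ a : A, r (MulAut.conjNormal g a) = r a * u a ^ k := by
        by_cases h0 : linStab A f₀ = linStab A f
        · exact ⟨μ₀, hμ₀, h0 ▸ hne₀, huμ⟩
        · exact ⟨f₀, hf₀, h0, huf⟩
      obtain ⟨v, -, hvp, -, hvf, hvr⟩ := hpair f r hf hr hrne
      obtain ⟨y, hy⟩ : ∃ y, y ∉ linStab A r := by
        by_contra h
        push Not at h
        exact hr (eq_top_iff.2 fun x _ => h x)
      obtain ⟨l, hl⟩ := hvr y
      obtain ⟨k, hk⟩ := hru y
      have hlp : ¬ p ∣ l := fun hd => hy fun b => by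
        show r (MulAut.conjNormal y b) = r b
        obtain ⟨j, rfl⟩ := hd
        rw [hl, pow_mul, hpnz v b hvp, one_pow, mul_one]
      have hva : v a = 1 := by
        have h1 := (hl a).symm.trans (hk a)
        rw [ha, one_pow, mul_one, mul_eq_left] at h1
        have h3 := pow_gcd_eq_one.2 (And.intro h1 (hpnz v a hvp))
        rwa [((hp.out.coprime_iff_not_dvd.2 hlp).symm).gcd_eq_one, pow_one] at h3
      obtain ⟨m, hm⟩ := hvf g
      rw [hm, hva, one_pow, mul_one]
    exact mul_inv_eq_iff_eq_mul.1 (congrArg Subtype.val h)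
  refine ⟨hZA, ?_⟩
  obtain ⟨a, ha⟩ : ∃ a, u a ≠ 1 := by
    by_contra h
    push Not at h
    exact hu1 (MonoidHom.ext h)
  have hprim : IsPrimitiveRoot (u a : ℂ) p := IsPrimitiveRoot.iff_orderOf.2 (by
    rw [orderOf_units]
    exact orderOf_eq_prime (hpnz u a hup) ha)
  have hrep : ∀ b : A, ∃ k : ℕ, (b : G) * ((a : G) ^ k)⁻¹ ∈ Subgroup.center G := fun b => by
    obtain ⟨k, -, hk⟩ := hprim.eq_pow_of_pow_eq_one
      (show (u b : ℂ) ^ p = 1 by rw [← Units.val_pow_eq_pow_val, hpnz u b hup, Units.val_one])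
    refine ⟨k, ?_⟩
    have h := hker (b * (a ^ k)⁻¹) (by
      rw [map_mul, map_inv, map_pow, mul_inv_eq_one]
      exact Units.ext (by rw [Units.val_pow_eq_pow_val, hk]))
    simpa using h
  refine ⟨a, a.2, fun haZ => ?_, ?_, fun g => ?_, fun b hb => hrep ⟨b, hb⟩⟩
  · -- otherwise `A` is central
    refine h1 (Subgroup.index_eq_one.2 (top_le_iff.1 fun x _ => hC ?_))
    rw [Subgroup.mem_centralizer_iff]
    intro b hb
    obtain ⟨k, hk⟩ := hrep ⟨b, hb⟩
    have h2 := (Subgroup.center G).mul_mem hk ((Subgroup.center G).pow_mem haZ k)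
    rw [inv_mul_cancel_right] at h2
    exact (Subgroup.mem_center_iff.1 h2 x).symm
  · simpa using hker (a ^ p) (by rw [map_pow, hpnz u a hup])
  · have h2 : u (MulAut.conjNormal g a) = u a := (hufix ▸ Subgroup.mem_top g : g ∈ linStab A u) a
    have h3 := hker (MulAut.conjNormal g a * a⁻¹) (by rw [map_mul, map_inv, h2, mul_inv_cancel])
    simpa using h3

include hcd in
/-- The commutator of two elements lies in the group spanned by their commutators with the
generator. -/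
theorem commutator_mem_closure (A : Subgroup G) [A.Normal] (hA : ∀ a ∈ A, ∀ b ∈ A, a * b = b * a)
    (hC : Subgroup.centralizer (A : Set G) ≤ A) {a : G} (haA : a ∈ A) (φ : G →* Subgroup.center G)
    (hφ : ∀ g, (φ g : G) = g * a * g⁻¹ * a⁻¹)
    (hAgen : ∀ b ∈ A, ∃ k : ℕ, b * (a ^ k)⁻¹ ∈ Subgroup.center G)
    (hbig : ∀ X Y : G, ∃ z, φ z ∉ Subgroup.closure ({φ X, φ Y} : Set (Subgroup.center G)))
    (x y : G) : x * y * x⁻¹ * y⁻¹ ∈
      (Subgroup.closure ({φ x, φ y} : Set (Subgroup.center G))).map (Subgroup.center G).subtype := by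
  have hZA : Subgroup.center G ≤ A := (Subgroup.center_le_centralizer _).trans hC
  have hAab : ∀ a b : A, a * b = b * a := fun a b => Subtype.ext (hA a a.2 b b.2)
  letI : CommGroup A := { (inferInstance : Group A) with mul_comm := hAab }
  set V := ((Subgroup.closure ({φ x, φ y} : Set (Subgroup.center G))).map
    (Subgroup.center G).subtype) with hV
  have hVA : V ≤ A := (Subgroup.map_subtype_le _).trans hZA
  have hstab : ∀ (f : A →* ℂˣ) g, (f ⟨(φ g : G), hZA (φ g).2⟩ = 1) → g ∈ linStab A f := by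
    intro f g hg b
    obtain ⟨k, hk⟩ := hAgen b b.2
    set z := (b : G) * (a ^ k)⁻¹ with hz
    have e : g * (b : G) * g⁻¹ = (φ g : G) ^ k * b := by
      have hb : (b : G) = z * a ^ k := by rw [hz, inv_mul_cancel_right]
      have h1 : g * a * g⁻¹ = (φ g : G) * a := by rw [hφ, inv_mul_cancel_right]
      have h2 : (g * a * g⁻¹) ^ k = (φ g : G) ^ k * a ^ k := by
        rw [h1]
        exact (show Commute (φ g : G) a from (Subgroup.mem_center_iff.1 (φ g).2 a).symm).mul_pow k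
      rw [conj_pow] at h2
      calc g * (b : G) * g⁻¹ = (g * z) * a ^ k * g⁻¹ := by rw [hb, ← mul_assoc]
        _ = z * (g * a ^ k * g⁻¹) := by
          rw [Subgroup.mem_center_iff.1 hk g]; simp only [mul_assoc]
        _ = z * ((φ g : G) ^ k * a ^ k) := by rw [h2]
        _ = _ := by
          rw [hb, ← mul_assoc, ← mul_assoc, Subgroup.mem_center_iff.1 hk ((φ g : G) ^ k)]
    have e' : (⟨g * b * g⁻¹, Subgroup.Normal.conj_mem ‹A.Normal› _ b.2 g⟩ : A) =
        (⟨(φ g : G), hZA (φ g).2⟩ : A) ^ k * b := Subtype.ext (by simpa using e)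
    show f _ = f b
    rw [e', map_mul, map_pow, hg, one_pow, one_mul]
  have hmovedne : ∀ (f : A →* ℂˣ) g, f ⟨(φ g : G), hZA (φ g).2⟩ ≠ 1 → linStab A f ≠ ⊤ := by
    intro f g hg h
    refine hg ?_
    have h2 := (h ▸ Subgroup.mem_top g : g ∈ linStab A f) ⟨a, haA⟩
    have e : (⟨(φ g : G), hZA (φ g).2⟩ : A) = ⟨g * a * g⁻¹, Subgroup.Normal.conj_mem ‹A.Normal› _ haA g⟩ * ⟨a, haA⟩⁻¹ :=
      Subtype.ext (by simp [hφ])
    rw [e, map_mul, map_inv, h2, mul_inv_cancel]
  obtain ⟨z, hz⟩ := hbig x y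
  set V' := V.subgroupOf A with hV'
  have hsep : ∀ w : A, w ∉ V' → ∃ f : A →* ℂˣ, (∀ v ∈ V', f v = 1) ∧ f w ≠ 1 := by
    intro w hw
    by_contra h
    push Not at h
    refine hw ((QuotientGroup.eq_one_iff w).1 ?_)
    refine eq_of_forall_hom_eq (R := A ⧸ V') (fun a b => mul_comm a b) fun f => ?_
    rw [map_one]
    exact h (f.comp (QuotientGroup.mk' V')) fun v hv => by
      rw [MonoidHom.comp_apply, QuotientGroup.mk'_apply, (QuotientGroup.eq_one_iff v).2 hv, map_one]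
  have hφV : ∀ g, φ g ∈ Subgroup.closure ({φ x, φ y} : Set (Subgroup.center G)) →
      (⟨(φ g : G), hZA (φ g).2⟩ : A) ∈ V' := fun g hg => Subgroup.mem_subgroupOf.2 ⟨φ g, hg, rfl⟩
  have hzV : (⟨(φ z : G), hZA (φ z).2⟩ : A) ∉ V' := fun h => by
    obtain ⟨w, hw, hwz⟩ := Subgroup.mem_subgroupOf.1 h
    exact hz (Subtype.ext hwz ▸ hw)
  have hκA : x * y * x⁻¹ * y⁻¹ ∈ A := hC <| by
    rw [Subgroup.mem_centralizer_iff]
    intro b hb
    have h := eq_of_forall_hom_eq hAab
      (x := ⟨(x * y * x⁻¹ * y⁻¹) * b * (x * y * x⁻¹ * y⁻¹)⁻¹, Subgroup.Normal.conj_mem ‹A.Normal› b hb _⟩)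
      (y := ⟨b, hb⟩) fun f => by
        rcases linStab_facts hcd A hA f with h | ⟨h, -⟩
        · exact (h ▸ Subgroup.mem_top _ : x * y * x⁻¹ * y⁻¹ ∈ linStab A f) ⟨b, hb⟩
        · exact commutator_mem_of_index_prime h x y ⟨b, hb⟩
    exact (mul_inv_eq_iff_eq_mul.1 (congrArg Subtype.val h)).symm
  by_contra hκ
  set κ : A := ⟨x * y * x⁻¹ * y⁻¹, hκA⟩ with hκdef
  have hκV : κ ∉ V' := fun h => hκ (Subgroup.mem_subgroupOf.1 h)
  -- a character killing `V` moved by `z` and nontrivial on the commutator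
  obtain ⟨f, hfV, hfκ, hfmove⟩ : ∃ f : A →* ℂˣ, (∀ v ∈ V', f v = 1) ∧ f κ ≠ 1 ∧
      f ⟨(φ z : G), hZA (φ z).2⟩ ≠ 1 := by
    obtain ⟨f, hfV, hfκ⟩ := hsep κ hκV
    obtain ⟨e, heV, hez⟩ := hsep _ hzV
    by_cases h1 : f ⟨(φ z : G), hZA (φ z).2⟩ = 1
    · by_cases h2 : e κ = 1
      · exact ⟨f * e, fun v hv => by rw [MonoidHom.mul_apply, hfV v hv, heV v hv, one_mul],
          by rwa [MonoidHom.mul_apply, h2, mul_one], by rwa [MonoidHom.mul_apply, h1, one_mul]⟩
      · exact ⟨e, heV, h2, hez⟩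
    · exact ⟨f, hfV, hfκ, h1⟩
  refine hfκ (((linStab_facts hcd A hA f).resolve_left (hmovedne f z hfmove)).2 x ?_ y ?_ hκA)
  · exact hstab f x (hfV _ (hφV x (Subgroup.subset_closure (Set.mem_insert _ _))))
  · exact hstab f y (hfV _ (hφV y (Subgroup.subset_closure (Set.mem_insert_of_mem _ rfl))))

include hcd in
/-- **Isaacs 12.11**, nilpotent case. -/
theorem center_index_of_no_abelian_index_prime (hG : ∃ a b : G, a * b ≠ b * a)
    (hno : ¬ ∃ A : Subgroup G, A.Normal ∧ (∀ a ∈ A, ∀ b ∈ A, a * b = b * a) ∧ A.index = p) :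
    (Subgroup.center G).index = p ^ 3 := by
  have hmaxex : ∀ B : Subgroup G, B.Normal → (∀ a ∈ B, ∀ b ∈ B, a * b = b * a) →
      ∃ A : Subgroup G, A.Normal ∧ (∀ a ∈ A, ∀ b ∈ A, a * b = b * a) ∧ B ≤ A ∧
        Subgroup.centralizer (A : Set G) ≤ A := by
    intro B hBn hB
    obtain ⟨A, hBA, ⟨hAn, hA⟩, hmax⟩ := (Set.toFinite
      {C : Subgroup G | C.Normal ∧ ∀ a ∈ C, ∀ b ∈ C, a * b = b * a}).exists_le_maximal
      (a := B) ⟨hBn, hB⟩
    haveI := hAn
    exact ⟨A, hAn, hA, hBA, centralizer_le_of_maximal A hA fun C hCn hC hAC => hmax ⟨hCn, hC⟩ hAC⟩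
  obtain ⟨A, hAn, hA, -, hC⟩ := hmaxex ⊥ inferInstance (fun a ha b hb => by
    rw [Subgroup.mem_bot.1 ha, Subgroup.mem_bot.1 hb])
  haveI := hAn
  have hgen' : ∀ B : Subgroup G, B.Normal → (∀ a ∈ B, ∀ b ∈ B, a * b = b * a) →
      Subgroup.centralizer (B : Set G) ≤ B →
      Subgroup.center G ≤ B ∧ ∃ a ∈ B, a ∉ Subgroup.center G ∧ a ^ p ∈ Subgroup.center G ∧
        (∀ g, g * a * g⁻¹ * a⁻¹ ∈ Subgroup.center G) ∧ ∀ b ∈ B, ∃ k : ℕ, b * (a ^ k)⁻¹ ∈ Subgroup.center G := by
    intro B hBn hB hBC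
    haveI := hBn
    refine exists_generator hcd B hB hBC (fun h => ?_) fun h => hno ⟨B, hBn, hB, h⟩
    rw [Subgroup.index_eq_one] at h
    obtain ⟨a, b, hab⟩ := hG
    exact hab (hB a (h ▸ Subgroup.mem_top a) b (h ▸ Subgroup.mem_top b))
  obtain ⟨hZA, a, haA, haZ, hap, hcZ, hAgen⟩ := hgen' A hAn hA hC
  letI : CommGroup (Subgroup.center G) := { (inferInstance : Group (Subgroup.center G)) with
    mul_comm := fun a b => Subtype.ext (Subgroup.mem_center_iff.1 b.2 a) }
  let φ : G →* Subgroup.center G :=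
    { toFun := fun g => ⟨g * a * g⁻¹ * a⁻¹, hcZ g⟩
      map_one' := Subtype.ext (by simp)
      map_mul' := fun g h => Subtype.ext (by
        show g * h * a * (g * h)⁻¹ * a⁻¹ = (g * a * g⁻¹ * a⁻¹) * (h * a * h⁻¹ * a⁻¹)
        have e := Subgroup.mem_center_iff.1 (hcZ h) g
        calc g * h * a * (g * h)⁻¹ * a⁻¹ = (g * (h * a * h⁻¹ * a⁻¹)) * a * g⁻¹ * a⁻¹ := by group
          _ = (h * a * h⁻¹ * a⁻¹) * (g * a * g⁻¹ * a⁻¹) := by rw [e]; simp only [mul_assoc]
          _ = _ := (Subgroup.mem_center_iff.1 (hcZ h) _).symm) }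
  have hφ : ∀ g, (φ g : G) = g * a * g⁻¹ * a⁻¹ := fun g => rfl
  have hker : φ.ker = A := by
    ext g
    rw [MonoidHom.mem_ker, ← Subtype.coe_inj, hφ, Subgroup.coe_one]
    refine ⟨fun h => hC ?_, fun h => ?_⟩
    · have h1 : g * a = a * g := mul_inv_eq_iff_eq_mul.1 (mul_inv_eq_one.1 h)
      rw [Subgroup.mem_centralizer_iff]
      intro b hb
      obtain ⟨k, hk⟩ := hAgen b hb
      have hb' : b = b * (a ^ k)⁻¹ * a ^ k := (inv_mul_cancel_right b _).symm
      rw [hb', mul_assoc, (show Commute g a from h1).pow_right k |>.eq.symm, ← mul_assoc,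
        ← Subgroup.mem_center_iff.1 hk g, mul_assoc]
    · rw [hA g h a haA, mul_inv_cancel_right, mul_inv_cancel]
  have hφp : ∀ g, φ g ^ p = 1 := fun g => Subtype.ext (by
    rw [SubmonoidClass.coe_pow, hφ, Subgroup.coe_one]
    have h1 : (g * a * g⁻¹) ^ p = a ^ p := by
      rw [conj_pow, Subgroup.mem_center_iff.1 hap g, mul_inv_cancel_right]
    have h2 : Commute (g * a * g⁻¹ * a⁻¹) a := (Subgroup.mem_center_iff.1 (hcZ g) a).symm
    have h3 := h2.mul_pow p
    rw [inv_mul_cancel_right, h1] at h3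
    exact right_eq_mul.1 h3)
  obtain ⟨n, hn⟩ := IsPGroup.iff_card.1 (show IsPGroup p φ.range from fun w => by
    obtain ⟨g, hg⟩ := w.2
    exact ⟨1, Subtype.ext (by rw [pow_one, SubmonoidClass.coe_pow, ← hg, hφp, Subgroup.coe_one])⟩)
  have hidx : A.index = p ^ n := by rw [← hn, ← hker, Subgroup.index_ker]
  have hrel : (Subgroup.center G).relIndex A = p := by
    have hmap : A.map (QuotientGroup.mk' (Subgroup.center G)) =
        Subgroup.zpowers (a : G ⧸ Subgroup.center G) := by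
      refine le_antisymm ?_ (Subgroup.zpowers_le.2 ⟨a, haA, rfl⟩)
      rintro _ ⟨b, hb, rfl⟩
      obtain ⟨k, hk⟩ := hAgen b hb
      have h1 := (QuotientGroup.eq_one_iff _).2 hk
      rw [QuotientGroup.mk_mul, QuotientGroup.mk_inv, mul_inv_eq_one] at h1
      rw [QuotientGroup.mk'_apply, h1, QuotientGroup.mk_pow]
      exact Subgroup.npow_mem_zpowers _ k
    conv_lhs => rw [← QuotientGroup.ker_mk' (Subgroup.center G)]
    rw [Subgroup.relIndex_ker, hmap, Nat.card_zpowers]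
    exact orderOf_eq_prime (by rw [← QuotientGroup.mk_pow, QuotientGroup.eq_one_iff]; exact hap)
      (fun h => haZ ((QuotientGroup.eq_one_iff a).1 h))
  rw [← Subgroup.relIndex_mul_index hZA, hrel, hidx, ← pow_succ']
  congr 1
  have hn1 : n ≠ 0 := fun h => by
    obtain ⟨-, b, hb, hbZ, -⟩ := hgen' A hAn hA hC
    obtain ⟨u, v, huv⟩ := hG
    rw [h, pow_zero, Subgroup.index_eq_one] at hidx
    exact huv (hA u (hidx ▸ Subgroup.mem_top u) v (hidx ▸ Subgroup.mem_top v))
  have hn2 : n ≠ 1 := fun h => hno ⟨A, hAn, hA, by rw [hidx, h, pow_one]⟩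
  by_contra hne
  have hn3 : 3 ≤ n := by omega
  have hcl2 : ∀ X Y : Subgroup.center G, X ^ p = 1 → Y ^ p = 1 →
      Nat.card (Subgroup.closure ({X, Y} : Set (Subgroup.center G))) ≤ p ^ 2 := fun X Y hX hY => by
    have e : Subgroup.closure ({X, Y} : Set (Subgroup.center G)) =
        Subgroup.zpowers X ⊔ Subgroup.zpowers Y := by
      rw [Set.insert_eq, Subgroup.closure_union, Subgroup.zpowers_eq_closure,
        Subgroup.zpowers_eq_closure]
    have hd := CfsgLib.Solvable.card_sup_dvd_mul (Subgroup.zpowers X) (Subgroup.zpowers Y)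
    rw [← e, Nat.card_zpowers, Nat.card_zpowers] at hd
    have hXd := orderOf_dvd_of_pow_eq_one hX
    have hYd := orderOf_dvd_of_pow_eq_one hY
    exact Nat.le_of_dvd (pow_pos hp.out.pos 2) (sq p ▸ hd.trans (Nat.mul_dvd_mul hXd hYd))
  have hbig : ∀ X Y : G, ∃ z, φ z ∉ Subgroup.closure ({φ X, φ Y} : Set (Subgroup.center G)) := by
    intro X Y
    by_contra h
    push Not at h
    have h1 : Nat.card φ.range ≤ p ^ 2 :=
      (Subgroup.card_le_of_le (show φ.range ≤ _ by rintro _ ⟨z, rfl⟩; exact h z)).trans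
        (hcl2 _ _ (hφp X) (hφp Y))
    rw [hn] at h1
    have := (Nat.pow_le_pow_iff_right hp.out.one_lt).1 h1
    omega
  set ι := (Subgroup.center G).subtype with hι
  have hκ : ∀ u v : G, ∃ i j : ℤ, u * v * u⁻¹ * v⁻¹ = ((φ u ^ i * φ v ^ j : Subgroup.center G) : G) := by
    intro u v
    obtain ⟨w, hw, hwe⟩ := commutator_mem_closure hcd A hA hC haA φ hφ hAgen hbig u v
    obtain ⟨i, j, hij⟩ := Subgroup.mem_closure_pair.1 hw
    exact ⟨i, j, by rw [hij]; exact hwe.symm⟩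
  have hκZ : ∀ u v : G, u * v * u⁻¹ * v⁻¹ ∈ Subgroup.center G := fun u v => by
    obtain ⟨i, j, h⟩ := hκ u v
    rw [h]; exact SetLike.coe_mem _
  -- commutation with a fixed element is a homomorphism
  let ψ : G → (G →* Subgroup.center G) := fun u =>
    { toFun := fun v => ⟨u * v * u⁻¹ * v⁻¹, hκZ u v⟩
      map_one' := Subtype.ext (by simp)
      map_mul' := fun v w => Subtype.ext (by
        show u * (v * w) * u⁻¹ * (v * w)⁻¹ = (u * v * u⁻¹ * v⁻¹) * (u * w * u⁻¹ * w⁻¹)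
        have e := Subgroup.mem_center_iff.1 (hκZ u w) v
        calc u * (v * w) * u⁻¹ * (v * w)⁻¹
            = u * v * u⁻¹ * ((u * w * u⁻¹ * w⁻¹) * v⁻¹) := by group
          _ = u * v * u⁻¹ * (v⁻¹ * (u * w * u⁻¹ * w⁻¹)) := by
              rw [Subgroup.mem_center_iff.1 (hκZ u w) v⁻¹]
          _ = _ := by simp only [mul_assoc]) }
  have hψ : ∀ u v, (ψ u v : G) = u * v * u⁻¹ * v⁻¹ := fun u v => rfl
  have hψanti : ∀ u v, ψ v u = (ψ u v)⁻¹ := fun u v => Subtype.ext (by
    rw [Subgroup.coe_inv, hψ, hψ]; group)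
  obtain ⟨x, hx⟩ := hbig 1 1
  obtain ⟨y, hy⟩ := hbig x 1
  obtain ⟨z, hz⟩ := hbig x y
  have hX1 : φ x ≠ 1 := fun h => hx (h ▸ Subgroup.one_mem _)
  have hY : φ y ∉ Subgroup.zpowers (φ x) := fun h => hy (by
    refine (Subgroup.zpowers_le.2 ?_) h
    exact Subgroup.subset_closure (Set.mem_insert _ _))
  set V := Subgroup.closure ({φ x, φ y} : Set (Subgroup.center G)) with hV
  have hXV : φ x ∈ V := Subgroup.subset_closure (Set.mem_insert _ _)
  have hYV : φ y ∈ V := Subgroup.subset_closure (Set.mem_insert_of_mem _ rfl)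
  obtain ⟨α, β, h1⟩ := hκ x y
  obtain ⟨γ, δ, h2⟩ := hκ x z
  obtain ⟨ε, η, h3⟩ := hκ x (y * z)
  replace h1 : ψ x y = φ x ^ α * φ y ^ β := Subtype.ext ((hψ x y).trans h1)
  replace h2 : ψ x z = φ x ^ γ * φ z ^ δ := Subtype.ext ((hψ x z).trans h2)
  replace h3 : ψ x (y * z) = φ x ^ ε * (φ y * φ z) ^ η := by
    rw [← map_mul φ]; exact Subtype.ext ((hψ x (y * z)).trans h3)
  rw [map_mul, h1, h2, mul_zpow] at h3
  -- the two exponents agree
  have hδη : (p : ℤ) ∣ δ - η := by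
    refine dvd_of_zpow_mem (w := φ z) (H := V) (hφp z) hz ?_
    have e : φ z ^ (δ - η) = (φ x ^ α * φ y ^ β * φ x ^ γ)⁻¹ * (φ x ^ ε * φ y ^ η) := by
      rw [zpow_sub]
      have h4 : φ z ^ δ = (φ x ^ α * φ y ^ β * φ x ^ γ)⁻¹ * (φ x ^ ε * φ y ^ η) * φ z ^ η := by
        rw [mul_assoc, mul_assoc (φ x ^ ε), ← h3]
        group
      rw [h4, mul_inv_cancel_right]
    rw [e]
    exact V.mul_mem (V.inv_mem (V.mul_mem (V.mul_mem (V.zpow_mem hXV _) (V.zpow_mem hYV _))
      (V.zpow_mem hXV _))) (V.mul_mem (V.zpow_mem hXV _) (V.zpow_mem hYV _))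
  have hzδ : φ z ^ δ = φ z ^ η := by
    obtain ⟨c, hc⟩ := hδη
    rw [show δ = η + (p : ℤ) * c by rw [← hc]; ring, zpow_add, zpow_mul, zpow_natCast, hφp,
      one_zpow, mul_one]
  have hyβ : φ y ^ β = φ y ^ η := by
    have h5 : (p : ℤ) ∣ β - η := by
      refine dvd_of_zpow_mem (w := φ y) (H := Subgroup.zpowers (φ x)) (hφp y) hY ?_
      have e : φ y ^ (β - η) = φ x ^ (ε - α - γ) := by
        have h6 : φ x ^ α * φ y ^ β * φ x ^ γ = φ x ^ ε * φ y ^ η := by
          refine mul_right_cancel (b := φ z ^ η) ?_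
          rw [hzδ] at h3
          simpa only [mul_assoc] using h3
        rw [zpow_sub, zpow_sub, zpow_sub, mul_inv_eq_iff_eq_mul]
        calc φ y ^ β = (φ x ^ α)⁻¹ * (φ x ^ α * φ y ^ β * φ x ^ γ) * (φ x ^ γ)⁻¹ := by group
          _ = (φ x ^ α)⁻¹ * (φ x ^ ε * φ y ^ η) * (φ x ^ γ)⁻¹ := by rw [h6]
          _ = _ := by
            rw [← mul_assoc ((φ x ^ α)⁻¹), mul_comm ((φ x ^ α)⁻¹) (φ x ^ ε), mul_right_comm (φ x ^ ε * _)]
      rw [e]
      exact ⟨_, rfl⟩
    obtain ⟨c, hc⟩ := h5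
    rw [show β = η + (p : ℤ) * c by rw [← hc]; ring, zpow_add, zpow_mul, zpow_natCast, hφp,
      one_zpow, mul_one]
  rw [hyβ] at h1
  rw [hzδ] at h2
  set x₁ := x * a ^ η with hx₁
  have hφa : φ a = 1 := MonoidHom.mem_ker.1 (hker.ge haA)
  have hψx₁ : ∀ v, ψ x₁ v = ψ x v * (φ v ^ η)⁻¹ := fun v => by
    have e1 : ψ v a = φ v := rfl
    rw [hψanti v x₁, hx₁, map_mul, map_zpow, e1, mul_inv_rev, ← hψanti v x, mul_comm]
  have hφx₁ : φ x₁ = φ x := by rw [hx₁, map_mul, map_zpow, hφa, one_zpow, mul_one]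
  have hx₁y : ψ x₁ y = φ x ^ α := by rw [hψx₁, h1, mul_inv_cancel_right]
  have hx₁z : ψ x₁ z = φ x ^ γ := by rw [hψx₁, h2, mul_inv_cancel_right]
  -- a further element commuting with `x₁`
  obtain ⟨w, hwc, hwX⟩ : ∃ w, ψ x₁ w = 1 ∧ φ w ∉ Subgroup.zpowers (φ x) := by
    by_cases hα : (p : ℤ) ∣ α
    · refine ⟨y, ?_, hY⟩
      obtain ⟨c, rfl⟩ := hα
      rw [hx₁y, zpow_mul, zpow_natCast, hφp, one_zpow]
    · refine ⟨y ^ γ * z ^ (-α), ?_, fun h => hα ?_⟩
      · rw [map_mul, map_zpow, map_zpow, hx₁y, hx₁z, ← zpow_mul, ← zpow_mul, ← zpow_add]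
        rw [show α * γ + γ * -α = 0 by ring, zpow_zero]
      · rw [map_mul, map_zpow, map_zpow] at h
        have h7 : φ z ^ (-α) ∈ V := by
          have h8 := V.mul_mem (V.inv_mem (V.zpow_mem hYV γ))
            ((Subgroup.zpowers_le.2 hXV) h)
          rwa [inv_mul_cancel_left] at h8
        exact dvd_neg.1 (dvd_of_zpow_mem (hφp z) hz h7)
  -- the abelian normal subgroup they generate
  set B := Subgroup.closure (insert x₁ (insert w (Subgroup.center G : Set G))) with hB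
  have hZB : Subgroup.center G ≤ B := fun c hc =>
    Subgroup.subset_closure (Set.mem_insert_of_mem _ (Set.mem_insert_of_mem _ hc))
  have hBn : B.Normal := ⟨fun b hb g => by
    have h9 := B.mul_mem (hZB (hκZ g b)) hb
    rwa [inv_mul_cancel_right] at h9⟩
  have hxw : x₁ * w = w * x₁ := by
    have h10 := congrArg Subtype.val hwc
    rw [hψ, Subgroup.coe_one] at h10
    exact mul_inv_eq_iff_eq_mul.1 (mul_inv_eq_one.1 h10)
  haveI : IsMulCommutative B := Subgroup.isMulCommutative_closure (by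
    rintro u (rfl | rfl | hu) v (rfl | rfl | hv)
    all_goals first
      | rfl
      | exact hxw
      | exact hxw.symm
      | exact Subgroup.mem_center_iff.1 hv _
      | exact (Subgroup.mem_center_iff.1 hu _).symm)
  obtain ⟨A', hA'n, hA', hBA', hC'⟩ := hmaxex B hBn fun u hu v hv =>
    congrArg Subtype.val ((‹IsMulCommutative B›).is_comm.comm ⟨u, hu⟩ ⟨v, hv⟩)
  obtain ⟨-, a', -, -, ha'p, -, hgen⟩ := hgen' A' hA'n hA' hC'
  obtain ⟨i, hi⟩ := hgen x₁ (hBA' (Subgroup.subset_closure (Set.mem_insert _ _)))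
  obtain ⟨j, hj⟩ := hgen w (hBA' (Subgroup.subset_closure
    (Set.mem_insert_of_mem _ (Set.mem_insert _ _))))
  have hφZ : ∀ c ∈ Subgroup.center G, φ c = 1 := fun c hc => MonoidHom.mem_ker.1 (hker.ge (hZA hc))
  have hi' : φ x = φ a' ^ i := by
    have h11 := hφZ _ hi
    rwa [map_mul, map_inv, map_pow, mul_inv_eq_one, hφx₁] at h11
  have hj' : φ w = φ a' ^ j := by
    have h11 := hφZ _ hj
    rwa [map_mul, map_inv, map_pow, mul_inv_eq_one] at h11
  refine hwX ?_
  rw [hj']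
  refine pow_mem ?_ j
  have hip : ¬ p ∣ i := fun ⟨c, hc⟩ => hX1 (by rw [hi', hc, pow_mul, hφp, one_pow])
  obtain ⟨k, hk⟩ := exists_pow_eq_self_of_coprime
    ((((hp.out.coprime_iff_not_dvd.2 hip)).symm).coprime_dvd_right (orderOf_dvd_of_pow_eq_one (hφp a')))
  rw [← hk, hi']
  exact Subgroup.npow_mem_zpowers _ k

/-- **Isaacs 12.11**: the groups with degrees `1` and `p`. -/
theorem prime_degree_iff {G : Type u} [Group G] [Finite G] (hG : ∃ a b : G, a * b ≠ b * a)
    {p : ℕ} [hp : Fact p.Prime] :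
    ((∀ χ : Cfsg.IrrCharacter G, Cfsg.charDegree (χ : G → ℂ) = 1 ∨ Cfsg.charDegree (χ : G → ℂ) = p) ∧
      ∃ χ : Cfsg.IrrCharacter G, Cfsg.charDegree (χ : G → ℂ) = p) ↔
    ((∃ A : Subgroup G, A.Normal ∧ (∀ a ∈ A, ∀ b ∈ A, a * b = b * a) ∧ A.index = p) ∨
      (Subgroup.center G).index = p ^ 3) := by
  refine ⟨fun ⟨hcd, hex⟩ => ?_, fun h => ?_⟩
  · by_cases hno : ∃ A : Subgroup G, A.Normal ∧ (∀ a ∈ A, ∀ b ∈ A, a * b = b * a) ∧ A.index = p
    · exact Or.inl hno
    refine Or.inr ?_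
    rcases structure_two_degrees p hcd hex hp.out.ne_one with
      ⟨A, h1, h2, h3, -⟩ | ⟨q, e, hq, -, P, A, hPn, hAn, hP, hab, -, -, hsup⟩
    · exact absurd ⟨A, h1, h2, h3⟩ hno
    · haveI : Fact q.Prime := ⟨hq⟩
      haveI : Group.IsNilpotent G := by
        have h := CfsgLib.Solvable.isNilpotent_sup_of_normal P A hPn hAn hP.isNilpotent
          (CfsgLib.Solvable.isNilpotent_of_comm fun x y => Subtype.ext (hab x x.2 y y.2))
        rw [hsup] at h
        exact Group.nilpotent_of_mulEquiv Subgroup.topEquiv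
      exact center_index_of_no_abelian_index_prime hcd hG hno
  · have hcd : ∀ χ : Cfsg.IrrCharacter G,
        Cfsg.charDegree (χ : G → ℂ) = 1 ∨ Cfsg.charDegree (χ : G → ℂ) = p := by
      intro χ
      obtain ⟨n, ρ, hρ, he⟩ := χ.2
      haveI := hρ
      have hd : Cfsg.charDegree (χ : G → ℂ) = Module.finrank ℂ (Fin n → ℂ) := by
        show CfsgLib.Char.degree (χ : G → ℂ) = _
        rw [← he, CfsgLib.Char.degree_character]
      rcases h with ⟨A, hA, hab, hidx⟩ | hidx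
      · haveI := hA
        exact (Nat.dvd_prime hp.out).1
          (hidx ▸ hd ▸ CfsgLib.Char.finrank_dvd_index_of_abelian_normal ρ A hab)
      · have hdvd : Cfsg.charDegree (χ : G → ℂ) ∣ p ^ 3 := hidx ▸ hd ▸
          CfsgLib.Char.finrank_dvd_index_of_abelian_normal ρ (Subgroup.center G)
            (fun a _ b hb => Subgroup.mem_center_iff.1 hb a)
        obtain ⟨i, -, hi⟩ := (Nat.dvd_prime_pow hp.out).1 hdvd
        have hsq := CharTools.degree_sq_mul_le χ (Subgroup.center G) le_rfl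
        rw [← (Subgroup.center G).index_mul_card, hidx] at hsq
        have h2 := Nat.le_of_mul_le_mul_right hsq Nat.card_pos
        rw [hi, ← pow_mul] at h2
        have h3 := (Nat.pow_le_pow_iff_right hp.out.one_lt).1 h2
        rcases (show i = 0 ∨ i = 1 by omega) with rfl | rfl
        · exact Or.inl (hi.trans (pow_zero p))
        · exact Or.inr (hi.trans (pow_one p))
    refine ⟨hcd, ?_⟩
    by_contra hex
    push Not at hex
    obtain ⟨a, b, hab⟩ := hG
    exact hab (comm_of_degree_one (fun χ => (hcd χ).resolve_right (hex χ)) a b)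

end CfsgLib.TwoDeg
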